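import Groth.Agent.H1ZeroLib.Main
import Groth.Agent.CurveLib.Ample

/-!
# Ample modules are nef
-/

set_option autoImplicit false
set_option backward.isDefEq.respectTransparency false
set_option linter.style.haveILetI false

universe u

open CategoryTheory AlgebraicGeometry

namespace Groth.Agent.H1ZeroLib

theorem isNef_of_isAmple {k : Type u} [Field k] {X : Scheme.{u}} [X.Over (Spec (CommRingCat.of k))]
    [IsProper (X ↘ Spec (CommRingCat.of k))] {L : X.Modules} (hA : CohB1.IsAmple L) : IsNef k L := by
  intro J hI hd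
  letI : J.subscheme.Over (Spec (CommRingCat.of k)) := ⟨J.subschemeι ≫ (X ↘ Spec (CommRingCat.of k))⟩
  haveI : IsProper (J.subscheme ↘ Spec (CommRingCat.of k)) :=
    inferInstanceAs (IsProper (J.subschemeι ≫ (X ↘ Spec (CommRingCat.of k))))
  exact ((CurveLib.isAmple_iff_deg_pos (k := k) hd (AmpleLib.isInvertible_pullback _ hA.1)).1
    (AmpleLib.isAmple_pullback J.subschemeι hA)).le

end Groth.Agent.H1ZeroLib
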