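import Groth.Agent.H1ZeroLib.Embed
import Groth.Agent.H1ZeroLib.AmpleNef
import Groth.Agent.S4471

/-!
# Ample modules on curves with `H¹(O) = 0` are very ample
-/

set_option autoImplicit false
set_option backward.isDefEq.respectTransparency false
set_option backward.isDefEq.respectTransparency.types false
set_option linter.style.haveILetI false
set_option maxHeartbeats 1000000

universe u

open CategoryTheory CategoryTheory.Limits AlgebraicGeometry TopologicalSpace Opposite
open Groth.Agent.PullbackMod Groth.Agent.DCohLib Groth.Agent.AmpleLib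

noncomputable section

namespace Groth.Agent.H1ZeroLib

/-- Relative very ampleness over a field, with the projective space of the field. -/
theorem exists_closedImmersion_of_va (k : Type u) [Field k] {X : Scheme.{u}}
    (f : X ⟶ Spec (CommRingCat.of k)) [IsProper f] {L : X.Modules}
    (h : RelAmple.IsRelVeryAmplePn f L) :
    ∃ (n : ℕ) (i : X ⟶ CohB1.ProjSpace n k), IsClosedImmersion i ∧ i ≫ CohB1.ProjSpace.toSpec n k = f ∧
      Nonempty ((Scheme.Modules.pullback i).obj (Twist.twistProjSpace n k 1) ≅ L) := by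
  obtain ⟨n, i, hi, hw, ⟨θ⟩⟩ := h
  letI : Algebra (ULift.{u} ℤ) k :=
    ((Int.castRingHom k).comp (ULift.ringEquiv : ULift.{u} ℤ ≃+* ℤ).toRingHom).toAlgebra
  obtain ⟨g, hg', ⟨τ⟩⟩ := S4471.exists_bc n (ULift.{u} ℤ) k 1
  let S := Spec (CommRingCat.of k)
  let ε : CohB1.ProjSpace n k ⟶ CohB1.ProjSpaceOver n S := ProjMap.liftOver g (CohB1.ProjSpace.toSpec n k)
  have hsq : IsPullback ε (CohB1.ProjSpace.toSpec n k) (CohB1.ProjSpaceOver.toBase n S) (𝟙 S) := by
    refine IsPullback.of_right ?_ (by rw [Category.comp_id]; exact ProjMap.liftOver_toBase _ _)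
      (IsPullback.of_hasPullback _ _)
    rw [show ε ≫ pullback.fst _ _ = g from ProjMap.liftOver_toInt _ _,
      show 𝟙 S ≫ specULiftZIsTerminal.from S = Spec.map (CommRingCat.ofHom (algebraMap (ULift.{u} ℤ) k)) from
        specULiftZIsTerminal.hom_ext _ _]
    exact hg'
  haveI : IsIso ε := hsq.isIso_fst_of_isIso
  have hw' : i ≫ CohB1.ProjSpaceOver.toBase n S = f := hw
  let j : X ⟶ CohB1.ProjSpace n k := i ≫ inv ε
  have hj : j ≫ CohB1.ProjSpace.toSpec n k = f := by
    have h1 : inv ε ≫ CohB1.ProjSpace.toSpec n k = CohB1.ProjSpaceOver.toBase n S := by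
      rw [IsIso.inv_comp_eq, hsq.w, Category.comp_id]
    rw [Category.assoc, h1, hw']
  haveI := hi
  haveI : IsImmersion j := inferInstanceAs (IsImmersion (i ≫ inv ε))
  haveI : IsProper (j ≫ CohB1.ProjSpace.toSpec n k) := by rw [hj]; infer_instance
  haveI : IsProper j := IsProper.of_comp j (CohB1.ProjSpace.toSpec n k)
  refine ⟨n, j, (IsClosedImmersion.iff_isProper_and_mono _).2 ⟨inferInstance, inferInstance⟩, hj, ⟨?_⟩⟩
  have hεt : inv ε ≫ g = pullback.fst _ _ := by
    rw [IsIso.inv_comp_eq]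
    exact (ProjMap.liftOver_toInt _ _).symm
  let e₁ : (Scheme.Modules.pullback (inv ε)).obj (Twist.twistProjSpace n k 1) ≅ Twist.twistOver n S 1 :=
    (Scheme.Modules.pullback (inv ε)).mapIso τ.symm ≪≫ (Scheme.Modules.pullbackComp (inv ε) g).app _ ≪≫
      (Scheme.Modules.pullbackCongr hεt).app _
  exact ((Scheme.Modules.pullbackComp i (inv ε)).app _).symm ≪≫ (Scheme.Modules.pullback i).mapIso e₁ ≪≫ θ.symm

/-- An ample module is very ample when `H¹(O) = 0` in dimension at most one. -/
theorem veryAmple_of_ample (k : Type u) [Field k] {X : Scheme.{u}} [X.Over (Spec (CommRingCat.of k))]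
    [IsProper (X ↘ Spec (CommRingCat.of k))] (hdim : topologicalKrullDim X ≤ 1)
    [h1 : Subsingleton (Coh.HH X (Coh.structureModule X) 1)] {L : X.Modules} (hA : CohB1.IsAmple L) :
    ∃ (n : ℕ) (i : X ⟶ CohB1.ProjSpace n k), IsClosedImmersion i ∧
      i ≫ CohB1.ProjSpace.toSpec n k = X ↘ (Spec (CommRingCat.of k)) ∧
      Nonempty ((Scheme.Modules.pullback i).obj (Twist.twistProjSpace n k 1) ≅ L) := by
  refine exists_closedImmersion_of_va k (X ↘ Spec (CommRingCat.of k)) ?_
  haveI := EulerIneqLib.isNoetherian_proper (X := X) k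
  haveI := EulerIneqLib.finite_HH (k := k) (CurveLib.isCoh_of_isInvertible hA.1) 0
  have hgg := (globallyGenerated_and_H1 (k := k) hdim hA.1 (isNef_of_isAmple hA)).1
  obtain ⟨r, σ, hσ⟩ := exists_fin_genLocus (k := k) hA.1 hgg
  let b := Module.finBasis k (Coh.HH X L 0)
  let s : Fin (r + Module.finrank k (Coh.HH X L 0) + 1) → (Coh.structureModule X ⟶ L) :=
    Fin.snoc (Fin.append σ fun i => DCohLib.secHom L (CurveLib.secOf L (b i))) 0
  refine isRelVeryAmplePn_of_embGen (X ↘ Spec (CommRingCat.of k)) hA.1 s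
    (embGen_of_noH1Cover (X ↘ Spec (CommRingCat.of k)) hA
      (fun j => noH1Cover (k := k) hdim (subsingleton_H1_pow (k := k) hdim hA.1 hgg (m := 0) h1 (Nat.zero_le j)))
      s (fun x => ?_) fun v => ?_)
  · obtain ⟨i, hi⟩ := hσ x
    refine ⟨(Fin.castAdd _ i).castSucc, ?_⟩
    rw [show s (Fin.castAdd _ i).castSucc = σ i by simp [s]]
    exact hi
  · let c := b.repr ((CurveLib.secOf L).symm v)
    refine ⟨Fin.snoc (Fin.append (fun _ : Fin r => (0 : Γ(Spec (CommRingCat.of k), ⊤)))
      fun i => (Scheme.ΓSpecIso (CommRingCat.of k)).inv (c i)) 0, ?_⟩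
    rw [Fin.sum_univ_castSucc, Fin.sum_univ_add]
    simp only [s, Fin.snoc_castSucc, Fin.snoc_last, Fin.append_left, Fin.append_right, map_zero, zero_smul,
      Finset.sum_const_zero, zero_add, add_zero, AmpleLib.sec_secHom]
    conv_lhs => rw [← (CurveLib.secOf L).apply_symm_apply v, ← b.sum_repr ((CurveLib.secOf L).symm v), map_sum]
    refine Finset.sum_congr rfl fun i _ => ?_
    rw [CurveLib.secOf_smul]
    rfl

end Groth.Agent.H1ZeroLib
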