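import Groth.Agent.AmpleLib.ExtendMod
import Groth.Agent.AmpleLib.GenLocus
import Groth.Agent.SerreAff.Basic
import Groth.Agent.CurveLib.SmulPow
import Groth.Agent.HilbObsLib.Ideal
import Groth.Agent.DCohLib.QCohAbelian
import Groth.Agent.AmpleLib.Pullback

/-!
# Multiplication of sections by a generated invertible module

Let `s` be finitely many sections of an invertible `A` generating it everywhere.  The kernel of
`(N ⊗ A)^r ⟶ N ⊗ A ⊗ A`, `(mᵢ) ↦ ∑ mᵢ ⊗ sᵢ` is covered by the Koszul relations, which are images of `N`.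
Hence sections multiply surjectively when every module covered by finitely many images of `N` has no
`H¹`.
-/

set_option autoImplicit false
set_option backward.isDefEq.respectTransparency false
set_option backward.isDefEq.respectTransparency.types false
set_option linter.style.haveILetI false

universe u

open CategoryTheory CategoryTheory.Limits AlgebraicGeometry TopologicalSpace Opposite
open Groth.Agent.PullbackMod Groth.Agent.DCohLib Groth.Agent.ParaFLib Groth.Agent.AmpleLib
open scoped TensorProduct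

noncomputable section

namespace Groth.Agent.H1ZeroLib

variable {X : Scheme.{u}}

/-- Every quasi-coherent module covered by finitely many images of `N` has no `H¹`. -/
def NoH1Cover (N : X.Modules) : Prop :=
  ∀ (n : ℕ) (B : X.Modules) [Coh.IsQCoh B] (ψ : Fin n → (N ⟶ B)), (∀ x, (⨆ i, LinearMap.range (stalkLin (ψ i) x)) = ⊤) →
    Subsingleton (Coh.HH X B 1)

theorem stalk_pairRight (M N : X.Modules) (σ : Γ(N, ⊤)) (x : X) (v : M.presheaf.stalk x) :
    stalkLin (pairRight M N σ) x v =
      stalkTensor x M N (v ⊗ₜ[X.presheaf.stalk x] N.presheaf.germ ⊤ x trivial σ) := by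
  obtain ⟨U, hxU, m, rfl⟩ := TopCat.Presheaf.exists_germ_eq M.presheaf v
  rw [stalkLin_germ]
  show (tmod M N).presheaf.germ U x hxU (pairS M N m (resT σ U)) = _
  rw [← stalkTensorHom_tmul x hxU m (resT σ U)]
  refine congrArg (fun w => stalkTensor x M N (M.presheaf.germ U x hxU m ⊗ₜ[X.presheaf.stalk x] w)) ?_
  exact TopCat.Presheaf.germ_res_apply N.presheaf (homOfLE (le_top : U ≤ ⊤)) x hxU σ

theorem stalkLin_sum {M N : X.Modules} {ι : Type*} (t : Finset ι) (f : ι → (M ⟶ N)) (x : X)
    (v : M.presheaf.stalk x) : stalkLin (∑ i ∈ t, f i) x v = ∑ i ∈ t, stalkLin (f i) x v :=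
  map_sum (AddMonoidHom.mk' (fun g : M ⟶ N => stalkLin g x v) fun g g' => by
    rw [DevLib.stalkLin_add, LinearMap.add_apply]) f t

theorem app_sum {M N : X.Modules} {ι : Type*} (t : Finset ι) (f : ι → (M ⟶ N)) (U : X.Opens)
    (v : Γ(M, U)) : (∑ i ∈ t, f i).app U v = ∑ i ∈ t, (f i).app U v :=
  map_sum (AddMonoidHom.mk' (fun g : M ⟶ N => g.app U v) fun _ _ => rfl) f t

theorem surjective_mul {A N : X.Modules} (hA : PicF.IsInvertible A) (hN' : PicF.IsInvertible N)
    (hN : NoH1Cover N) {r : ℕ}
    (s : Fin r → (Coh.structureModule X ⟶ A)) (hs : ∀ x, ∃ i, x ∈ CohB1.genLocus A (s i))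
    (σ : Γ(tmod (tmod N A) A, ⊤)) :
    ∃ τ : Fin r → Γ(tmod N A, ⊤), ∑ i, pairS (tmod N A) A (τ i) (sec (s i)) = σ := by
  classical
  haveI : HasFiniteBiproducts X.Modules := Abelian.hasFiniteBiproducts
  let M := tmod N A
  let P : X.Modules := ⨁ fun _ : Fin r => M
  let μ : P ⟶ tmod M A := biproduct.desc fun i => pairRight M A (sec (s i))
  let g := fun (i : Fin r) (x : X) => A.presheaf.germ ⊤ x trivial (sec (s i))
  have hgen : ∀ x, ∃ a, Function.Bijective fun c : X.presheaf.stalk x => c • g a x := fun x => by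
    obtain ⟨a, ha⟩ := hs x
    exact ⟨a, (mem_genLocus_iff hA).1 ha⟩
  have hμι : ∀ (i : Fin r) (x : X) (w : M.presheaf.stalk x),
      stalkLin μ x (stalkLin (biproduct.ι (fun _ : Fin r => M) i) x w) = stalkTensor x M A (w ⊗ₜ g i x) := fun i x w => by
    rw [← LinearMap.comp_apply, ← stalkLin_comp, biproduct.ι_desc, stalk_pairRight]
  haveI : Epi μ := (epi_iff_stalk μ).2 fun x z => by
    obtain ⟨a, ha⟩ := hgen x
    obtain ⟨z, rfl⟩ := (stalkTensor x M A).surjective z
    induction z with
    | zero => exact ⟨0, by rw [map_zero, map_zero]⟩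
    | add p q hp hq =>
      obtain ⟨p', hp'⟩ := hp
      obtain ⟨q', hq'⟩ := hq
      exact ⟨p' + q', by rw [map_add, hp', hq', map_add]⟩
    | tmul w v =>
      obtain ⟨c, rfl⟩ := ha.2 v
      refine ⟨stalkLin (biproduct.ι (fun _ : Fin r => M) a) x (c • w), ?_⟩
      rw [hμι]
      exact congrArg _ (TensorProduct.smul_tmul c w (g a x))
  let ρ : Fin r → (N ⟶ M) := fun i => pairRight N A (sec (s i))
  let ψ₀ : Fin r → Fin r → (N ⟶ P) := fun a i =>
    ρ a ≫ biproduct.ι (fun _ : Fin r => M) i - ρ i ≫ biproduct.ι (fun _ : Fin r => M) a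
  have hψ : ∀ a i, ψ₀ a i ≫ μ = 0 := fun a i => by
    refine hom_ext_stalk fun x => LinearMap.ext fun v => ?_
    obtain ⟨b, hb⟩ := hgen x
    obtain ⟨ca, hca⟩ := hb.2 (g a x)
    obtain ⟨ci, hci⟩ := hb.2 (g i x)
    rw [DevLib.stalkLin_zero, LinearMap.zero_apply]
    show stalkLin ((ρ a ≫ biproduct.ι (fun _ : Fin r => M) i - ρ i ≫ biproduct.ι (fun _ : Fin r => M) a) ≫ μ) x v = 0
    rw [Preadditive.sub_comp, Category.assoc, Category.assoc,
      biproduct.ι_desc, biproduct.ι_desc, sub_eq_add_neg, DevLib.stalkLin_add, LinearMap.add_apply]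
    have hneg : ∀ f : N ⟶ tmod M A, stalkLin (-f) x v = -stalkLin f x v := fun f =>
      map_neg (AddMonoidHom.mk' (fun g : N ⟶ tmod M A => stalkLin g x v) fun g g' => by
        rw [DevLib.stalkLin_add, LinearMap.add_apply]) f
    rw [hneg, stalkLin_comp, stalkLin_comp, LinearMap.comp_apply, LinearMap.comp_apply, stalk_pairRight,
      stalk_pairRight, stalk_pairRight, stalk_pairRight, add_neg_eq_zero]
    change stalkTensor x M A (stalkTensor x N A (v ⊗ₜ g a x) ⊗ₜ g i x) =
      stalkTensor x M A (stalkTensor x N A (v ⊗ₜ g i x) ⊗ₜ g a x)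
    rw [← hca, ← hci]
    dsimp only
    simp only [TensorProduct.tmul_smul, ← TensorProduct.smul_tmul', map_smul]
    rw [smul_comm]
  let ψ : Fin (r * r) → (N ⟶ kernel μ) := fun p =>
    kernel.lift μ (ψ₀ (finProdFinEquiv.symm p).1 (finProdFinEquiv.symm p).2) (hψ _ _)
  have hcov : ∀ x, (⨆ p, LinearMap.range (stalkLin (ψ p) x)) = ⊤ := fun x => by
    refine eq_top_iff.2 fun z _ => ?_
    obtain ⟨a, ha⟩ := hgen x
    choose c hc using fun i => ha.2 (g i x)
    let m := stalkLin (kernel.ι μ) x z
    let mi : Fin r → M.presheaf.stalk x := fun i => stalkLin (biproduct.π (fun _ : Fin r => M) i) x m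
    have hm : m = ∑ i, stalkLin (biproduct.ι (fun _ : Fin r => M) i) x (mi i) := by
      conv_lhs => rw [show m = stalkLin (𝟙 P) x m by rw [stalkLin_id]; rfl, ← biproduct.total, stalkLin_sum]
      simp only [stalkLin_comp, LinearMap.comp_apply, mi]
      rfl
    have hrel : ∑ i, c i • mi i = 0 := by
      have h0 := HilbObsLib.stalk_kernel_ι_comp μ x z
      change stalkLin μ x m = 0 at h0
      rw [hm, map_sum] at h0
      have h1 : (∑ i, c i • mi i) ⊗ₜ[X.presheaf.stalk x] g a x = 0 := by
        refine (stalkTensor x M A).injective (Eq.trans ?_ (h0.trans (map_zero _).symm))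
        rw [TensorProduct.sum_tmul, map_sum]
        refine Finset.sum_congr rfl fun i _ => ?_
        rw [hμι]
        exact congrArg _ ((TensorProduct.smul_tmul (c i) (mi i) (g a x)).trans (congrArg _ (hc i)))
      let e := LinearEquiv.ofBijective (LinearMap.toSpanSingleton (X.presheaf.stalk x) _ (g a x)) ha
      let E := (TensorProduct.rid (X.presheaf.stalk x) (M.presheaf.stalk x)).symm.trans
        (LinearEquiv.lTensor (M.presheaf.stalk x) e)
      have hE : ∀ w, E w = w ⊗ₜ g a x := fun w => by simp [E, e]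
      exact (LinearEquiv.map_eq_zero_iff E).1 ((hE _).trans h1)
    have hv : ∀ i, ∃ v, stalkTensor x N A (v ⊗ₜ g a x) = mi i := fun i => by
      obtain ⟨w, hw⟩ := (stalkTensor x N A).surjective (mi i)
      rw [← hw]
      clear hw
      induction w with
      | zero => exact ⟨0, by rw [TensorProduct.zero_tmul]⟩
      | add p q hp hq =>
        obtain ⟨p', hp'⟩ := hp
        obtain ⟨q', hq'⟩ := hq
        exact ⟨p' + q', by rw [TensorProduct.add_tmul, map_add, hp', hq', map_add]⟩
      | tmul n v =>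
        obtain ⟨d, rfl⟩ := ha.2 v
        exact ⟨d • n, congrArg _ (TensorProduct.smul_tmul d n (g a x))⟩
    choose v hv using hv
    have key : z = ∑ i, stalkLin (ψ (finProdFinEquiv (a, i))) x (v i) := by
      refine (mono_iff_stalk (kernel.ι μ)).1 inferInstance x ?_
      change m = _
      rw [map_sum]
      have e1 : ∀ i, stalkLin (kernel.ι μ) x (stalkLin (ψ (finProdFinEquiv (a, i))) x (v i)) =
          stalkLin (biproduct.ι (fun _ : Fin r => M) i) x (mi i) -
            stalkLin (biproduct.ι (fun _ : Fin r => M) a) x (c i • mi i) := fun i => by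
        rw [← LinearMap.comp_apply, ← stalkLin_comp, kernel.lift_ι, Equiv.symm_apply_apply]
        show stalkLin (ρ a ≫ _ - ρ i ≫ _) x (v i) = _
        rw [sub_eq_add_neg, ← Preadditive.neg_comp, DevLib.stalkLin_add, LinearMap.add_apply, stalkLin_comp,
          stalkLin_comp, LinearMap.comp_apply, LinearMap.comp_apply, sub_eq_add_neg, ← map_neg]
        congr 2
        · rw [stalk_pairRight, ← hv i]
        · have hneg : stalkLin (-ρ i) x (v i) = -stalkLin (ρ i) x (v i) :=
            map_neg (AddMonoidHom.mk' (fun g : N ⟶ M => stalkLin g x (v i)) fun g g' => by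
              rw [DevLib.stalkLin_add, LinearMap.add_apply]) (ρ i)
          rw [hneg, stalk_pairRight, ← hv i]
          show -stalkTensor x N A (v i ⊗ₜ g i x) = _
          rw [← hc i, TensorProduct.tmul_smul, map_smul]
      rw [Finset.sum_congr rfl fun i _ => e1 i, Finset.sum_sub_distrib, ← map_sum, hrel, map_zero, sub_zero]
      exact hm
    rw [key]
    exact sum_mem fun i _ => Submodule.mem_iSup_of_mem _ ⟨v i, rfl⟩
  haveI : Coh.IsQCoh (kernel μ) := by
    have hM : Coh.IsQCoh M := InvExt.isQCoh_of_isInvertible (AmpleLib.isInvertible_tensor hN' hA)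
    have hP : Coh.IsQCoh P := (QCohCat.isQCoh X).prop_of_isLimit_fan (biproduct.isLimit _) fun _ => hM
    exact (QCohLib.isQCoh_image μ hP
      (InvExt.isQCoh_of_isInvertible (AmpleLib.isInvertible_tensor (AmpleLib.isInvertible_tensor hN' hA) hA))).1
  obtain ⟨p, hp⟩ := SerreAff.surjective_top μ (hN _ _ ψ hcov) σ
  refine ⟨fun i => (biproduct.π (fun _ : Fin r => M) i).app ⊤ p, ?_⟩
  rw [← hp]
  have e2 : μ = ∑ i, biproduct.π (fun _ : Fin r => M) i ≫ pairRight M A (sec (s i)) := biproduct.desc_eq
  conv_rhs => rw [e2, app_sum]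
  refine Finset.sum_congr rfl fun i _ => ?_
  show pairS M A _ _ = pairS M A _ (resT (sec (s i)) ⊤)
  rw [resT, ParaFLib.res_self]
  rfl

end Groth.Agent.H1ZeroLib
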