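import Groth.Agent.H1ZeroLib.Coh
import Groth.Agent.AmpleLib.FinProd

/-!
# Globally generated modules on curves with `H¹(O) = 0`
-/

set_option autoImplicit false
set_option backward.isDefEq.respectTransparency false
set_option backward.isDefEq.respectTransparency.types false
set_option linter.style.haveILetI false

universe u

open CategoryTheory CategoryTheory.Limits AlgebraicGeometry TopologicalSpace Opposite
open Groth.Agent.PullbackMod Groth.Agent.DCohLib Groth.Agent.CurveLib

noncomputable section

namespace Groth.Agent.H1ZeroLib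

variable {X : Scheme.{u}}

/-- The global sections of a globally generated module span every stalk. -/
theorem iSup_range_sections {E : X.Modules} (h : Curv2.IsGloballyGenerated E) (x : X) :
    (⨆ t : Coh.structureModule X ⟶ E, LinearMap.range (stalkLin t x)) = ⊤ := by
  obtain ⟨ι, p, hp⟩ := h
  haveI := hp
  set S := ⨆ t : Coh.structureModule X ⟶ E, LinearMap.range (stalkLin t x) with hS
  let ψ : E ⟶ PullbackMod.sky x (E.presheaf.stalk x ⧸ S) := PullbackMod.toSky S.mkQ
  have hψ : ψ = 0 := by
    refine (@cancel_epi X.Modules _ _ _ _ p hp ψ 0).1 ?_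
    refine Eq.trans ?_ (comp_zero (C := X.Modules) (f := p)).symm
    refine Cofan.IsColimit.hom_ext (SheafOfModules.isColimitFreeCofan ι) _ _ fun i => ?_
    let t : Coh.structureModule X ⟶ E := SheafOfModules.ιFree i ≫ p
    refine Eq.trans ?_ (comp_zero (C := X.Modules) (f := SheafOfModules.ιFree i)).symm
    refine (Category.assoc (obj := X.Modules) (SheafOfModules.ιFree i) p ψ).symm.trans ?_
    show t ≫ ψ = 0
    refine DCohLib.hom_unit_ext ?_
    refine funext fun hx => ?_
    show S.mkQ (E.presheaf.germ ⊤ x hx.down (AmpleLib.sec t)) = 0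
    rw [Submodule.mkQ_apply, Submodule.Quotient.mk_eq_zero, hS]
    refine Submodule.mem_iSup_of_mem t ⟨ParaFLib.oneG x, ?_⟩
    exact stalkLin_germ t (U := ⊤) x trivial _
  refine eq_top_iff.2 fun e _ => ?_
  obtain ⟨U, hxU, m, hm⟩ := TopCat.Presheaf.exists_germ_eq E.presheaf e
  have h0 : (PullbackMod.toSky S.mkQ).app U m = 0 := by
    show ψ.app U m = 0
    rw [hψ]
    rfl
  rw [← Submodule.Quotient.mk_eq_zero, ← Submodule.mkQ_apply, ← hm, ← PullbackMod.toSky_app S.mkQ U m ⟨hxU⟩]
  exact congrFun h0 ⟨hxU⟩

variable {k : Type u} [Field k] [X.Over (Spec (CommRingCat.of k))] [IsProper (X ↘ Spec (CommRingCat.of k))]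

include k in
/-- Finitely many global sections span all stalks of a globally generated coherent module. -/
theorem exists_fin_sections {E : X.Modules} (hE : Coh.IsCoh E) (h : Curv2.IsGloballyGenerated E) :
    ∃ (n : ℕ) (σ : Fin n → (Coh.structureModule X ⟶ E)), ∀ x, (⨆ i, LinearMap.range (stalkLin (σ i) x)) = ⊤ := by
  haveI := EulerIneqLib.isNoetherian_proper (X := X) k
  haveI := EulerIneqLib.finite_HH (k := k) hE 0
  let b := Module.finBasis k (Coh.HH X E 0)
  refine ⟨_, fun i => DCohLib.secHom E (secOf E (b i)), fun x => eq_top_iff.2 ?_⟩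
  rw [← iSup_range_sections h x]
  refine iSup_le fun t => ?_
  rintro _ ⟨w, rfl⟩
  obtain ⟨c, rfl⟩ := (ParaFLib.bijective_oneG x).2 w
  rw [map_smul]
  refine Submodule.smul_mem _ _ ?_
  let z := (secOf E).symm (AmpleLib.sec t)
  have h1 : stalkLin t x (ParaFLib.oneG x) = E.presheaf.germ ⊤ x trivial (secOf E z) := by
    rw [AddEquiv.apply_symm_apply, ← CurveLib.stalkLin_secHom, AmpleLib.secHom_sec]
  rw [h1, ← b.sum_repr z, map_sum, map_sum]
  refine Submodule.sum_mem _ fun i _ => ?_
  rw [secOf_smul, ParaFLib.germ_smul']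
  exact Submodule.smul_mem _ _ (Submodule.mem_iSup_of_mem i ⟨ParaFLib.oneG x, CurveLib.stalkLin_secHom _ x⟩)

include k in
/-- Globally generated coherent modules have no `H¹` when `H¹(O) = 0` in dimension at most one. -/
theorem subsingleton_H1_of_isGloballyGenerated (hdim : topologicalKrullDim X ≤ 1)
    [Subsingleton (Coh.HH X (Coh.structureModule X) 1)]
    {E : X.Modules} (hE : Coh.IsCoh E) (h : Curv2.IsGloballyGenerated E) : Subsingleton (Coh.HH X E 1) := by
  obtain ⟨n, σ, hσ⟩ := exists_fin_sections (k := k) hE h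
  exact subsingleton_H1_of_jointly (k := k) hdim n E σ hσ

end Groth.Agent.H1ZeroLib
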