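import Groth.Agent.H1ZeroLib.Koszul
import Groth.Agent.H1ZeroLib.Global
import Groth.Agent.AmpleLib.FinProd
import Groth.Agent.SecTwistBridge.Basic

/-!
# Sections of powers of a generated invertible module are spanned by products
-/

set_option autoImplicit false
set_option backward.isDefEq.respectTransparency false
set_option backward.isDefEq.respectTransparency.types false
set_option linter.style.haveILetI false

universe u

open CategoryTheory CategoryTheory.Limits AlgebraicGeometry TopologicalSpace Opposite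
open Groth.Agent.PullbackMod Groth.Agent.DCohLib Groth.Agent.ParaFLib Groth.Agent.AmpleLib
open scoped TensorProduct

noncomputable section

namespace Groth.Agent.H1ZeroLib

variable {X : Scheme.{u}}

/-- The map `v ↦ σ ⊗ v`. -/
def pairLeft (M N : X.Modules) (σ : Γ(M, ⊤)) : N ⟶ tmod M N :=
  ⟨PresheafOfModules.homMk
    { app := fun V => AddCommGrpCat.ofHom (AddMonoidHom.mk' (fun v => pairS M N (resT σ V.unop) v)
        fun v w => pairS_add_right _ v w)
      naturality := fun {V W} g => by
        refine AddCommGrpCat.hom_ext (AddMonoidHom.ext fun v => ?_)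
        show pairS M N (resT σ W.unop) (N.presheaf.map g v) = (tmod M N).presheaf.map g (pairS M N (resT σ V.unop) v)
        rw [show g = (homOfLE g.unop.le).op from rfl, res_pairS, resT, resT, ParaFLib.res_res] }
    fun V a v => pairS_smul_right a _ v⟩

theorem isIso_pairLeft_one (L : X.Modules) :
    IsIso (pairLeft (Coh.structureModule X) L (1 : Γ(X, ⊤))) := by
  refine (isIso_iff_stalk _).2 fun x => ?_
  have h : ∀ v, stalkLin (pairLeft (Coh.structureModule X) L (1 : Γ(X, ⊤))) x v =
      stalkTensor x (Coh.structureModule X) L (ParaFLib.oneG x ⊗ₜ[X.presheaf.stalk x] v) := fun v => by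
    obtain ⟨U, hxU, m, rfl⟩ := TopCat.Presheaf.exists_germ_eq L.presheaf v
    rw [stalkLin_germ]
    show (tmod _ L).presheaf.germ U x hxU
      (pairS (Coh.structureModule X) L (resT (show Γ(Coh.structureModule X, ⊤) from (1 : Γ(X, ⊤))) U) m) = _
    rw [← stalkTensorHom_tmul x hxU (resT (show Γ(Coh.structureModule X, ⊤) from (1 : Γ(X, ⊤))) U) m]
    refine congrArg (fun w => stalkTensor x (Coh.structureModule X) L (w ⊗ₜ[X.presheaf.stalk x] L.presheaf.germ U x hxU m)) ?_
    exact TopCat.Presheaf.germ_res_apply (Coh.structureModule X).presheaf (homOfLE (le_top : U ≤ ⊤)) x hxU _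
  let e := LinearEquiv.ofBijective (LinearMap.toSpanSingleton (X.presheaf.stalk x) _ (ParaFLib.oneG x))
    (ParaFLib.bijective_oneG x)
  let E := ((TensorProduct.lid (X.presheaf.stalk x) (L.presheaf.stalk x)).symm.trans
    (LinearEquiv.rTensor (L.presheaf.stalk x) e)).trans (stalkTensor x (Coh.structureModule X) L)
  have hE : ⇑(stalkLin (pairLeft (Coh.structureModule X) L (1 : Γ(X, ⊤))) x) = E := funext fun v => by
    rw [h]
    simp [E, e]
  rw [hE]
  exact E.bijective

/-- The span of the products in degree zero. -/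
theorem span_tmul_zero (L : X.Modules) :
    Submodule.span (X.ringCatSheaf.obj.obj (op ⊤))
        (Set.range (fun p : (CohB1.tensorPow L 0).val.obj (op ⊤) × L.val.obj (op ⊤) =>
          SecTwist.tmul (CohB1.tensorPow L 0) L ⊤ p.1 p.2)) = ⊤ := by
  refine eq_top_iff.2 fun z _ => ?_
  haveI := isIso_pairLeft_one L
  obtain ⟨v, hv⟩ := (ConcreteCategory.bijective_of_isIso
    ((pairLeft (Coh.structureModule X) L (1 : Γ(X, ⊤))).app ⊤)).2 z
  rw [← hv]
  exact Submodule.subset_span ⟨(resT (show Γ(Coh.structureModule X, ⊤) from (1 : Γ(X, ⊤))) ⊤, v), rfl⟩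

variable {k : Type u} [Field k] [X.Over (Spec (CommRingCat.of k))] [IsProper (X ↘ Spec (CommRingCat.of k))]

include k in
/-- Finitely many generating sections of a globally generated invertible module. -/
theorem exists_fin_genLocus {A : X.Modules} (hA : PicF.IsInvertible A) (hgg : Curv2.IsGloballyGenerated A) :
    ∃ (r : ℕ) (s : Fin r → (Coh.structureModule X ⟶ A)), ∀ x, ∃ i, x ∈ CohB1.genLocus A (s i) := by
  haveI : CompactSpace X := QuasiCompact.compactSpace_of_compactSpace (X ↘ Spec (CommRingCat.of k))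
  choose t ht using exists_genLocus_of_isGloballyGenerated hA hgg
  obtain ⟨T, hT⟩ := isCompact_univ.elim_finite_subcover (fun x : X => (CohB1.genLocus A (t x) : Set X))
    (fun x => (CohB1.genLocus A (t x)).2) (fun x _ => Set.mem_iUnion.2 ⟨x, ht x⟩)
  refine ⟨T.card, fun i => t (T.equivFin.symm i).1, fun x => ?_⟩
  obtain ⟨y, hy, hxy⟩ := Set.mem_iUnion₂.1 (hT (Set.mem_univ x))
  exact ⟨T.equivFin ⟨y, hy⟩, by simp only [Equiv.symm_apply_apply]; exact hxy⟩

variable (hdim : topologicalKrullDim X ≤ 1)

include k hdim in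
theorem noH1Cover {N : X.Modules} (h : Subsingleton (Coh.HH X N 1)) : NoH1Cover N := fun n B _ ψ hψ =>
  subsingleton_H1_of_jointly (k := k) hdim n B ψ hψ

include k hdim in
theorem subsingleton_H1_pow {A : X.Modules} (hA : PicF.IsInvertible A) (hgg : Curv2.IsGloballyGenerated A)
    {m : ℕ} (hm : Subsingleton (Coh.HH X (CohB1.tensorPow A m) 1)) {n : ℕ} (hn : m ≤ n) :
    Subsingleton (Coh.HH X (CohB1.tensorPow A n) 1) := by
  induction n, hn using Nat.le_induction with
  | base => exact hm
  | succ j _ ih =>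
    obtain ⟨r, s, hs⟩ := exists_fin_genLocus (k := k) hA hgg
    haveI : Coh.IsQCoh (CohB1.tensorPow A (j + 1)) :=
      InvExt.isQCoh_of_isInvertible (isInvertible_tensorPow hA (j + 1))
    refine noH1Cover (k := k) hdim ih r _ (fun i => pairRight (CohB1.tensorPow A j) A (sec (s i))) fun x => ?_
    obtain ⟨a, ha⟩ := hs x
    rw [mem_genLocus_iff hA] at ha
    refine eq_top_iff.2 fun z _ => Submodule.mem_iSup_of_mem a ?_
    obtain ⟨z, rfl⟩ := (stalkTensor x (CohB1.tensorPow A j) A).surjective z
    induction z with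
    | zero => exact ⟨0, by rw [map_zero, map_zero]⟩
    | add p q hp hq => rw [map_add]; exact add_mem (hp trivial) (hq trivial)
    | tmul w v =>
      obtain ⟨c, rfl⟩ := ha.2 v
      exact ⟨c • w, (stalk_pairRight (CohB1.tensorPow A j) A (sec (s a)) x (c • w)).trans
        (congrArg _ (TensorProduct.smul_tmul c w _))⟩

include k hdim in
/-- Products span from degree `m + 1` on. -/
theorem span_tmul_eq_top {A : X.Modules} (hA : PicF.IsInvertible A) (hgg : Curv2.IsGloballyGenerated A)
    {m : ℕ} (hm : Subsingleton (Coh.HH X (CohB1.tensorPow A m) 1)) {n : ℕ} (hn : m + 1 ≤ n) :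
    Submodule.span (X.ringCatSheaf.obj.obj (op ⊤))
        (Set.range (fun p : (CohB1.tensorPow A n).val.obj (op ⊤) × A.val.obj (op ⊤) =>
          SecTwist.tmul (CohB1.tensorPow A n) A ⊤ p.1 p.2)) = ⊤ := by
  obtain ⟨j, rfl⟩ : ∃ j, n = j + 1 := ⟨n - 1, by omega⟩
  obtain ⟨r, s, hs⟩ := exists_fin_genLocus (k := k) hA hgg
  refine eq_top_iff.2 fun z _ => ?_
  obtain ⟨τ, rfl⟩ := surjective_mul hA (isInvertible_tensorPow hA j)
    (noH1Cover (k := k) hdim (subsingleton_H1_pow (k := k) hdim hA hgg hm (by omega : m ≤ j))) s hs z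
  exact sum_mem fun i _ => Submodule.subset_span ⟨(τ i, sec (s i)), rfl⟩

end Groth.Agent.H1ZeroLib
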