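import Groth.Agent.H1ZeroLib.Main
import Groth.Agent.H1ZeroLib.Koszul
import Groth.Agent.H1ZeroLib.SpanSec
import Groth.Agent.FibreVanishQC.ClosedFibre
import Groth.Agent.ProperFin.Main
import Groth.Agent.CurveP1Lib.Transport
import Groth.Agent.CMRegLib.Koszul

/-!
# Nef invertible modules over an affine base with small fibres and `H¹(O) = 0`
-/

set_option autoImplicit false
set_option backward.isDefEq.respectTransparency false
set_option backward.isDefEq.respectTransparency.types false
set_option linter.style.haveILetI false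

universe u

open CategoryTheory CategoryTheory.Limits AlgebraicGeometry TopologicalSpace Opposite
open Groth.Agent.PullbackMod Groth.Agent.DCohLib Groth.Agent.CurveLib
open scoped TensorProduct

noncomputable section

namespace Groth.Agent.H1ZeroLib

variable {X Y : Scheme.{u}} (f : X ⟶ Y) [IsProper f] [IsAffine Y]
  (hfib : ∀ y : Y, topologicalKrullDim ↥(f.fiber y) ≤ (1 : ℕ))

include f hfib in
theorem subsingleton_H2 (M : X.Modules) [Coh.IsQCoh M] : Subsingleton (Coh.HH X M 2) :=
  CohBase.subsingleton_HH _ _ (FibreVanishQC.subsingleton_HU_affine f 1 hfib M 1 le_rfl)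

omit [IsProper f] [IsAffine Y] in
theorem isQCoh_kernel {A B : X.Modules} (φ : A ⟶ B) [Coh.IsQCoh A] [Coh.IsQCoh B] : Coh.IsQCoh (kernel φ) :=
  (QCohLib.isQCoh_image φ inferInstance inferInstance).1

include f hfib in
theorem subsingleton_H1_of_epi {A B : X.Modules} (φ : A ⟶ B) [Epi φ] [Coh.IsQCoh A] [Coh.IsQCoh B]
    (h : Subsingleton (Coh.HH X A 1)) : Subsingleton (Coh.HH X B 1) := by
  haveI := isQCoh_kernel φ
  exact CMRegLib.subsingleton_right (S := kerSeq φ) (kerSeq_shortExact φ ((epi_iff_stalk φ).1 inferInstance)) 1 h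
    (subsingleton_H2 f hfib (kernel φ))

include f hfib in
theorem surjective_H1_of_epi {A B : X.Modules} (φ : A ⟶ B) [Epi φ] [Coh.IsQCoh A] [Coh.IsQCoh B] :
    Function.Surjective (Sheaf.H.map ((QCohLib.toAbF X).map φ) 1) := by
  haveI := isQCoh_kernel φ
  haveI := subsingleton_H2 f hfib (kernel φ)
  intro z
  have h : Subsingleton (Sheaf.H (((kerSeq φ).map (QCohLib.toAbF X)).X₁) (1 + 1)) :=
    subsingleton_H2 f hfib (kernel φ)
  have hT := QCohLib.toAb_shortExact (kerSeq_shortExact φ ((epi_iff_stalk φ).1 inferInstance))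
  refine Abelian.Ext.covariant_sequence_exact₃ _ hT z rfl ?_
  exact @Subsingleton.elim _ h _ _

omit [IsProper f] [IsAffine Y] in
theorem isQCoh_biproduct {r : ℕ} {N : X.Modules} (h : Coh.IsQCoh N) [HasBiproduct fun _ : Fin r => N] :
    Coh.IsQCoh (⨁ fun _ : Fin r => N) :=
  (QCohCat.isQCoh X).prop_of_isLimit_fan (biproduct.isLimit _) fun _ => h

include f hfib in
theorem noH1Cover_rel {N : X.Modules} [Coh.IsQCoh N] (hN : Subsingleton (Coh.HH X N 1)) : NoH1Cover N := by
  intro n
  induction n with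
  | zero =>
    intro B _ ψ h
    haveI : Epi (0 : N ⟶ B) := (epi_iff_stalk _).2 fun x => by
      have h1 := h x
      rw [iSup_of_empty] at h1
      haveI := (Submodule.subsingleton_iff (X.presheaf.stalk x)).1 (subsingleton_iff_bot_eq_top.1 h1)
      exact Function.surjective_to_subsingleton _
    exact subsingleton_H1_of_epi f hfib (0 : N ⟶ B) hN
  | succ n ih =>
    intro B _ ψ h
    let ι := Abelian.image.ι (ψ 0)
    let π := cokernel.π ι
    haveI : Coh.IsQCoh (cokernel (ψ 0)) := (QCohLib.isQCoh_image (ψ 0) ‹_› ‹_›).2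
    haveI : Coh.IsQCoh (Abelian.image (ψ 0)) := isQCoh_kernel (cokernel.π (ψ 0))
    haveI : Coh.IsQCoh (cokernel ι) := (QCohLib.isQCoh_image ι ‹_› ‹_›).2
    have h3 : Subsingleton (Coh.HH X (cokernel ι) 1) := ih _ (fun i => ψ i.succ ≫ π) fun x => by
      refine eq_top_iff.2 fun z _ => ?_
      obtain ⟨b, rfl⟩ := DevLib.coker_surjective ι x z
      have hb : b ∈ ⨆ i, LinearMap.range (stalkLin (ψ i) x) := (h x).symm ▸ Submodule.mem_top
      have hle : (⨆ i, LinearMap.range (stalkLin (ψ i) x)) ≤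
          (⨆ i : Fin n, LinearMap.range (stalkLin (ψ i.succ ≫ π) x)).comap (stalkLin π x) := by
        refine iSup_le fun i => ?_
        rintro _ ⟨w, rfl⟩
        rw [Submodule.mem_comap]
        cases i using Fin.cases with
        | zero =>
          have h0 : ψ 0 ≫ π = 0 :=
            (congrArg (· ≫ π) (Abelian.image.fac (ψ 0)).symm).trans
              (by rw [Category.assoc]; exact (congrArg (_ ≫ ·) (cokernel.condition ι)).trans comp_zero)
          rw [show stalkLin π x (stalkLin (ψ 0) x w) = 0 from by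
            rw [← LinearMap.comp_apply, ← stalkLin_comp, h0, DevLib.stalkLin_zero, LinearMap.zero_apply]]
          exact zero_mem _
        | succ j =>
          refine Submodule.mem_iSup_of_mem j ⟨w, ?_⟩
          rw [stalkLin_comp, LinearMap.comp_apply]
      exact hle hb
    haveI : Coh.IsQCoh B := ‹_›
    have h1 := subsingleton_H1_of_epi f hfib (Abelian.factorThruImage (ψ 0)) hN
    exact SerreAff.subsingleton_mid (DevLib.cokerSeq_shortExact ι) 1 h1 h3

/-- `H¹` of a sum of maps. -/
theorem Hmap_sum {M N : X.Modules} {ι : Type*} (t : Finset ι) (φ : ι → (M ⟶ N)) (z : Coh.HH X M 1) :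
    Sheaf.H.map ((QCohLib.toAbF X).map (∑ i ∈ t, φ i)) 1 z =
      ∑ i ∈ t, Sheaf.H.map ((QCohLib.toAbF X).map (φ i)) 1 z :=
  map_sum (AddMonoidHom.mk' (fun φ : M ⟶ N => Sheaf.H.map ((QCohLib.toAbF X).map φ) 1 z) fun φ φ' => by
    show Sheaf.H.map ((QCohLib.toAbF X).map (φ + φ')) 1 z = _
    rw [Functor.map_add]
    show z.comp (Abelian.Ext.mk₀ (_ + _)) (add_zero 1) = _
    rw [Abelian.Ext.mk₀_add, Abelian.Ext.comp_add]
    rfl) φ t

section Fibre

variable {A : Type u} [CommRing A] (g : X ⟶ Spec (CommRingCat.of A))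

/-- The ideal sheaf of the fibre over `V(I)`. -/
def fibreIdeal (I : Ideal A) : X.IdealSheafData := Scheme.IdealSheafData.ofIdealTop (I.map (Coh.toGlobal g))

theorem stalkIdeal_fibreIdeal (I : Ideal A) (x : X) :
    IntMult.stalkIdeal (fibreIdeal g I) x =
      I.map ((X.presheaf.germ ⊤ x trivial).hom.comp (Coh.toGlobal g)) := by
  obtain ⟨_, ⟨U : X.Opens, hU, rfl⟩, hxU, -⟩ :=
    X.isBasis_affineOpens.exists_subset_of_mem_open (Set.mem_univ x) isOpen_univ
  rw [IdealStalkLib.stalkIdeal_eq _ ⟨U, hU⟩ x hxU, fibreIdeal, Scheme.IdealSheafData.ofIdealTop_ideal,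
    Ideal.map_map, Ideal.map_map]
  refine congrArg (fun φ => Ideal.map φ I) (RingHom.ext fun a => ?_)
  exact TopCat.Presheaf.germ_res_apply X.presheaf (homOfLE (le_top : U ≤ ⊤)) x hxU _

theorem stalk_smulModΓ (M : X.Modules) (r : Coh.Γtop X) (x : X) (v : M.presheaf.stalk x) :
    stalkLin (Formal.smulModΓ M r) x v = (X.presheaf.germ ⊤ x trivial (show Γ(X, ⊤) from r)) • v := by
  obtain ⟨U, hxU, m, rfl⟩ := TopCat.Presheaf.exists_germ_eq M.presheaf v
  rw [stalkLin_germ]
  show M.presheaf.germ U x hxU ((X.presheaf.map (homOfLE (le_top : U ≤ ⊤)).op (show Γ(X, ⊤) from r)) • m) = _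
  rw [ParaFLib.germ_smul', TopCat.Presheaf.germ_res_apply]

/-- `a ↦ a_x`. -/
def germA (x : X) : A →+* X.presheaf.stalk x := (X.presheaf.germ ⊤ x trivial).hom.comp (Coh.toGlobal g)

theorem mem_fibreIdeal_support_iff (I : Ideal A) [I.IsMaximal] (x : X) :
    x ∈ (fibreIdeal g I).support ↔ (IsLocalRing.maximalIdeal (X.presheaf.stalk x)).comap (germA g x) = I := by
  rw [mem_support_iff_stalk, stalkIdeal_fibreIdeal]
  constructor
  · intro h
    exact ((Ideal.IsMaximal.eq_of_le ‹I.IsMaximal› (Ideal.comap_ne_top _ (IsLocalRing.maximalIdeal.isMaximal _).ne_top))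
      (Ideal.map_le_iff_le_comap.1 (IsLocalRing.le_maximalIdeal h))).symm
  · intro h e
    refine (IsLocalRing.maximalIdeal.isMaximal (X.presheaf.stalk x)).ne_top (top_le_iff.1 ?_)
    rw [← e]
    exact Ideal.map_le_iff_le_comap.2 h.ge

theorem comap_germA (x : X) :
    (IsLocalRing.maximalIdeal (X.presheaf.stalk x)).comap (germA g x) = (g x : PrimeSpectrum A).asIdeal := by
  ext a
  have e : germA g x a = g.stalkMap x ((Spec (CommRingCat.of A)).presheaf.germ ⊤ (g x) trivial
      ((Scheme.ΓSpecIso (CommRingCat.of A)).inv a)) := (Scheme.Hom.germ_stalkMap_apply g ⊤ x trivial _).symm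
  rw [Ideal.mem_comap, IsLocalRing.mem_maximalIdeal, mem_nonunits_iff, e]
  have h1 : IsUnit (g.stalkMap x ((Spec (CommRingCat.of A)).presheaf.germ ⊤ (g x) trivial
      ((Scheme.ΓSpecIso (CommRingCat.of A)).inv a))) ↔
      IsUnit ((Spec (CommRingCat.of A)).presheaf.germ ⊤ (g x) trivial
        ((Scheme.ΓSpecIso (CommRingCat.of A)).inv a)) :=
    ⟨fun h => isUnit_of_map_unit (g.stalkMap x).hom _ h, fun h => h.map (g.stalkMap x).hom⟩
  rw [h1, ← Scheme.mem_basicOpen _ _ _ (show g x ∈ (⊤ : (Spec (CommRingCat.of A)).Opens) from trivial),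
    basicOpen_eq_of_affine]
  exact not_not

end Fibre

section Main

variable {A : Type u} [CommRing A] [IsNoetherianRing A] (g : X ⟶ Spec (CommRingCat.of A)) [IsProper g]
  (hg : ∀ y, topologicalKrullDim ↥(g.fiber y) ≤ (1 : ℕ))
  [hO : Subsingleton (Coh.HH X (Coh.structureModule X) 1)]
  {L : X.Modules} (hL : PicF.IsInvertible L)
  (hnef : ∀ (K : Type u) [Field K] (i : A →+* K) (J : X.IdealSheafData)
    (t : J.subscheme ⟶ Spec (CommRingCat.of K)),
    AlgebraicGeometry.IsIntegral J.subscheme → topologicalKrullDim ↥J.subscheme = 1 →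
    t ≫ Spec.map (CommRingCat.ofHom i) = J.subschemeι ≫ g →
    0 ≤ @Curv2.deg K _ J.subscheme ⟨t⟩ ((Scheme.Modules.pullback J.subschemeι).obj L) 1)

include hg hL hnef in
/-- The statement on the fibre over a maximal ideal. -/
theorem fibre_gg (I : Ideal A) [I.IsMaximal] :
    GG (fibreIdeal g I) L ∧ Subsingleton (Coh.HH X (LJ (fibreIdeal g I) L) 1) := by
  letI := Ideal.Quotient.field I
  let K := A ⧸ I
  let J := fibreIdeal g I
  let Z := J.subscheme
  let ρ : CommRingCat.of A ⟶ Γ(Z, ⊤) := CommRingCat.ofHom (Coh.toGlobal (J.subschemeι ≫ g))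
  have hker : ∀ a ∈ I, ρ a = 0 := fun a ha => by
    refine TopCat.Presheaf.section_ext Z.sheaf ⊤ _ 0 fun w _ => ?_
    show Z.presheaf.germ ⊤ w trivial (ρ a) = Z.presheaf.germ ⊤ w trivial 0
    rw [map_zero]
    have e : Z.presheaf.germ ⊤ w trivial (ρ a) = J.subschemeι.stalkMap w (germA g (J.subschemeι w) a) :=
      (Scheme.Hom.germ_stalkMap_apply J.subschemeι ⊤ w trivial _).symm
    rw [e]
    have hmem : germA g (J.subschemeι w) a ∈ IntMult.stalkIdeal J (J.subschemeι w) := by
      rw [stalkIdeal_fibreIdeal]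
      exact Ideal.mem_map_of_mem _ ha
    rw [← IdealStalkLib.ker_stalkMap_subschemeι J w] at hmem
    exact hmem
  let tK : CommRingCat.of K ⟶ Γ(Z, ⊤) := CommRingCat.ofHom (Ideal.Quotient.lift I ρ.hom hker)
  let t : Z ⟶ Spec (CommRingCat.of K) := Z.toSpecΓ ≫ Spec.map tK
  have ht : t ≫ Spec.map (CommRingCat.ofHom (Ideal.Quotient.mk I)) = J.subschemeι ≫ g := by
    rw [Category.assoc, ← Spec.map_comp]
    have e1 : CommRingCat.ofHom (Ideal.Quotient.mk I) ≫ tK =
        (Scheme.ΓSpecIso (CommRingCat.of A)).inv ≫ (J.subschemeι ≫ g).appTop := by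
      refine CommRingCat.hom_ext (RingHom.ext fun a => ?_)
      exact Ideal.Quotient.lift_mk I ρ.hom hker
    rw [e1, Spec.map_comp, ← Category.assoc, ← Scheme.toSpecΓ_naturality, Category.assoc,
      AlgebraicGeometry.toSpecΓ_SpecMap_ΓSpecIso_inv, Category.comp_id]
  letI : Z.Over (Spec (CommRingCat.of K)) := ⟨t⟩
  haveI : IsProper t := by
    haveI : IsProper (t ≫ Spec.map (CommRingCat.ofHom (Ideal.Quotient.mk I))) := by rw [ht]; infer_instance
    exact IsProper.of_comp t (Spec.map (CommRingCat.ofHom (Ideal.Quotient.mk I)))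
  haveI : IsProper (Z ↘ Spec (CommRingCat.of K)) := ‹IsProper t›
  -- dimension
  let s : Spec (CommRingCat.of A) := (⟨I, inferInstance⟩ : PrimeSpectrum A)
  have hrange : ∀ w : Z, g (J.subschemeι w) = s := fun w => by
    refine PrimeSpectrum.ext ?_
    rw [← comap_germA]
    refine (mem_fibreIdeal_support_iff g I _).1 ?_
    rw [← SetLike.mem_coe, ← Scheme.IdealSheafData.range_subschemeι]
    exact ⟨w, rfl⟩
  have hdim : topologicalKrullDim Z ≤ 1 := by
    let e : Z → g ⁻¹' {s} := fun w => ⟨J.subschemeι w, hrange w⟩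
    have he : Topology.IsInducing e := Topology.IsInducing.of_comp
      (J.subschemeι.continuous.subtype_mk _) continuous_subtype_val J.subschemeι.isEmbedding.isInducing
    exact ((g.fiberHomeo s).symm.isEmbedding.isInducing.comp he).topologicalKrullDim_le.trans (hg s)
  -- cohomology
  haveI : IsLocallyNoetherian X := LocallyOfFiniteType.isLocallyNoetherian g
  obtain ⟨eO⟩ : Nonempty (Coh.HH Z (Coh.structureModule Z) 1 ≃+ Coh.HH X (ClSub.quotMod J) 1) := by
    obtain ⟨e, -⟩ := ProperFin.exists_pushEquiv J.subschemeι (M := Coh.structureModule Z)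
      (fun _ hV m => CohBase.affine_vanishing (Coh.structureModule Z) (hV.preimage _) m) 1
    exact ⟨e⟩
  haveI : Subsingleton (Coh.HH Z (Coh.structureModule Z) 1) := by
    haveI : Epi (ClSub.toSubscheme J) := HilbObsLib.epi_toSubscheme J
    haveI : Coh.IsQCoh (ClSub.quotMod J) := (IntLib.isCoh_quotMod J).1
    haveI : Coh.IsQCoh (Coh.structureModule X) := InvExt.isQCoh_of_isInvertible ParaFLib.isInvertible_structureModule
    haveI := subsingleton_H1_of_epi g hg (ClSub.toSubscheme J) hO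
    exact eO.toEquiv.subsingleton
  let M := (Scheme.Modules.pullback J.subschemeι).obj L
  have hM : PicF.IsInvertible M := AmpleLib.isInvertible_pullback _ hL
  have hnefM : IsNef K M := by
    intro J' hI' hd'
    let c := J'.subschemeι ≫ J.subschemeι
    let J'' := c.ker
    let e : J'.subscheme ⟶ J''.subscheme := c.toImage
    haveI : IsIso e := inferInstanceAs (IsIso c.toImage)
    haveI : IsIntegral J''.subscheme := by
      haveI : Nonempty J''.subscheme := ⟨e (Classical.arbitrary _)⟩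
      exact isIntegral_of_isOpenImmersion (inv e)
    have hd'' : topologicalKrullDim J''.subscheme = 1 :=
      (e.homeomorph.isHomeomorph.topologicalKrullDim_eq).symm.trans hd'
    let t'' : J''.subscheme ⟶ Spec (CommRingCat.of K) := inv e ≫ J'.subschemeι ≫ t
    have he : e ≫ J''.subschemeι = J'.subschemeι ≫ J.subschemeι := c.toImage_imageι
    have hw : t'' ≫ Spec.map (CommRingCat.ofHom (Ideal.Quotient.mk I)) = J''.subschemeι ≫ g := by
      rw [Category.assoc, Category.assoc, ht, ← Category.assoc J'.subschemeι, ← he, Category.assoc,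
        IsIso.inv_hom_id_assoc]
    have key := hnef K (Ideal.Quotient.mk I) J'' t'' inferInstance hd'' hw
    letI : J'.subscheme.Over (Spec (CommRingCat.of K)) := ⟨J'.subschemeι ≫ t⟩
    letI : J''.subscheme.Over (Spec (CommRingCat.of K)) := ⟨t''⟩
    haveI : IsProper (J'.subscheme ↘ Spec (CommRingCat.of K)) :=
      inferInstanceAs (IsProper (J'.subschemeι ≫ t))
    have heK : e ≫ (J''.subscheme ↘ Spec (CommRingCat.of K)) = J'.subscheme ↘ Spec (CommRingCat.of K) :=
      IsIso.hom_inv_id_assoc e _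
    let P := (Scheme.Modules.pullback J''.subschemeι).obj L
    haveI : Coh.IsQCoh P := InvExt.isQCoh_of_isInvertible (AmpleLib.isInvertible_pullback _ hL)
    haveI : Coh.IsQCoh (Coh.structureModule J''.subscheme) :=
      InvExt.isQCoh_of_isInvertible ParaFLib.isInvertible_structureModule
    let θ : (Scheme.Modules.pullback e).obj P ≅ (Scheme.Modules.pullback J'.subschemeι).obj M :=
      (Scheme.Modules.pullbackComp e J''.subschemeι).app L ≪≫ (Scheme.Modules.pullbackCongr he).app L ≪≫
        ((Scheme.Modules.pullbackComp J'.subschemeι J.subschemeι).app L).symm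
    refine key.trans (le_of_eq ?_)
    unfold Curv2.deg
    rw [← CurveLib.euler_iso (K := K) θ, CurveP1Lib.euler_pullback e heK,
      ← CurveLib.euler_iso (K := K) (DCohLib.pullStructureIso e), CurveP1Lib.euler_pullback e heK]
  obtain ⟨hgg, hH1⟩ := globallyGenerated_and_H1 (k := K) hdim hM hnefM
  haveI : Coh.IsQCoh (Coh.structureModule Z) := InvExt.isQCoh_of_isInvertible ParaFLib.isInvertible_structureModule
  let θ : LJ J L ≅ (Scheme.Modules.pushforward J.subschemeι).obj M :=
    projIso J.subschemeι (Coh.structureModule Z) L ≪≫ (Scheme.Modules.pushforward J.subschemeι).mapIso (tmodUnit M)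
  refine ⟨fun x => ?_, ?_⟩
  · by_cases hx : x ∈ J.support
    swap
    · exact ⟨0, surjective_of_notMem_supportL hL hx _⟩
    obtain ⟨w, rfl⟩ : ∃ w, J.subschemeι w = x := by
      rw [← Set.mem_range, Scheme.IdealSheafData.range_subschemeι]; exact hx
    obtain ⟨s', hs⟩ := AmpleLib.exists_genLocus_of_isGloballyGenerated hM hgg w
    rw [AmpleLib.mem_genLocus_iff hM] at hs
    let τ : Γ(M, ⊤) := AmpleLib.sec s'
    let σ' : Coh.structureModule X ⟶ (Scheme.Modules.pushforward J.subschemeι).obj M :=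
      DCohLib.secHom ((Scheme.Modules.pushforward J.subschemeι).obj M) τ
    refine ⟨σ' ≫ θ.inv, ?_⟩
    rw [stalkLin_comp]
    refine ((isIso_iff_stalk θ.inv).1 inferInstance _).2.comp fun z => ?_
    obtain ⟨r, hr⟩ := hs.2 (pushStalk J.subschemeι M w z)
    obtain ⟨c, rfl⟩ := J.subschemeι.stalkMap_surjective w r
    refine ⟨c • ParaFLib.oneG _, (bijective_pushStalk J.subschemeι M w).1 ?_⟩
    rw [map_smul, pushStalk_smul, CurveLib.stalkLin_secHom]
    exact (congrArg (_ • ·) (pushStalk_germ J.subschemeι M w (W := ⊤) trivial _)).trans hr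
  · haveI : Coh.IsQCoh M := InvExt.isQCoh_of_isInvertible hM
    obtain ⟨e, -⟩ := ProperFin.exists_pushEquiv J.subschemeι (M := M)
      (fun _ hV m => CohBase.affine_vanishing M (hV.preimage _) m) 1
    haveI : Subsingleton (Coh.HH X ((Scheme.Modules.pushforward J.subschemeι).obj M) 1) :=
      e.symm.toEquiv.subsingleton
    exact ProjCoh.subsingleton_of_iso θ.symm 1

include hg hL hnef hO in
/-- Nef invertible modules have no `H¹` and are globally generated. -/
theorem rel_gg_and_H1 : Curv2.IsGloballyGenerated L ∧ Subsingleton (Coh.HH X L 1) := by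
  haveI : CompactSpace X := QuasiCompact.compactSpace_of_compactSpace g
  haveI : IsLocallyNoetherian X := LocallyOfFiniteType.isLocallyNoetherian g
  haveI : IsNoetherian X := {}
  haveI : HasFiniteBiproducts X.Modules := Abelian.hasFiniteBiproducts
  let M₀ : X.Modules := tmod (Coh.structureModule X) L
  have hM₀ : PicF.IsInvertible M₀ :=
    AmpleLib.isInvertible_tensor ParaFLib.isInvertible_structureModule hL
  haveI : Coh.IsQCoh M₀ := InvExt.isQCoh_of_isInvertible hM₀
  haveI : ∀ J : X.IdealSheafData, Coh.IsQCoh (LJ J L) := fun J =>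
    (isCoh_tmod (IntLib.isCoh_quotMod J) (CurveLib.isCoh_of_isInvertible hL)).1
  let q := fun J : X.IdealSheafData => (tmap (ClSub.toSubscheme J) L : M₀ ⟶ LJ J L)
  have hw : ∀ (x : X) (e : L.presheaf.stalk x) (J : X.IdealSheafData) (c : X.presheaf.stalk x),
      stalkLin (q J) x (c • stalkTensor x (Coh.structureModule X) L (ParaFLib.oneG x ⊗ₜ[X.presheaf.stalk x] e)) =
        tq J x e c := fun x e J c => by
    rw [← map_smul (stalkTensor x (Coh.structureModule X) L), TensorProduct.smul_tmul', stalkTensor_natural_left,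
      LinearMap.rTensor_tmul]
    rfl
  have hq : ∀ J, Epi (q J) := fun J => (epi_iff_stalk _).2 fun x z => by
    obtain ⟨e, he⟩ := ParaFLib.exists_stalk_gen hL x
    obtain ⟨c, rfl⟩ := tq_surjective he J z
    exact ⟨_, hw x e J c⟩
  -- the kernel of the restriction to a fibre
  have hker : ∀ (I : Ideal A) (r : ℕ) (a : Fin r → A) (ha : Submodule.span A (Set.range a) = I),
      ∃ ψ : Fin r → (M₀ ⟶ kernel (q (fibreIdeal g I))),
        (∀ i, ψ i ≫ kernel.ι _ = Formal.smulModΓ M₀ (Coh.toGlobal g (a i))) ∧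
          ∀ x, (⨆ i, LinearMap.range (stalkLin (ψ i) x)) = ⊤ := by
    intro I r a ha
    have hz : ∀ i, Formal.smulModΓ M₀ (Coh.toGlobal g (a i)) ≫ q (fibreIdeal g I) = 0 := fun i => by
      refine hom_ext_stalk fun x => LinearMap.ext fun v => ?_
      obtain ⟨e, he⟩ := ParaFLib.exists_stalk_gen hL x
      obtain ⟨c, rfl⟩ := (AmpleLib.bijective_stalkTensor (ParaFLib.bijective_oneG x) he).2 v
      rw [DevLib.stalkLin_zero, LinearMap.zero_apply, stalkLin_comp, LinearMap.comp_apply, stalk_smulModΓ,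
        smul_smul, hw, tq_eq_zero_iff he, stalkIdeal_fibreIdeal]
      exact Ideal.mul_mem_right _ _ (Ideal.mem_map_of_mem _ (ha ▸ Submodule.subset_span ⟨i, rfl⟩))
    refine ⟨fun i => kernel.lift _ _ (hz i), fun i => kernel.lift_ι _ _ _, fun x => eq_top_iff.2 fun z _ => ?_⟩
    obtain ⟨e, he⟩ := ParaFLib.exists_stalk_gen hL x
    obtain ⟨c, hc⟩ := (AmpleLib.bijective_stalkTensor (ParaFLib.bijective_oneG x) he).2
      (stalkLin (kernel.ι (q (fibreIdeal g I))) x z)
    dsimp only at hc
    have h0 := HilbObsLib.stalk_kernel_ι_comp (q (fibreIdeal g I)) x z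
    rw [← hc, hw, tq_eq_zero_iff he, stalkIdeal_fibreIdeal, ← ha, Ideal.map_span,
      ← Set.range_comp, Ideal.mem_span_range_iff_exists_fun] at h0
    obtain ⟨d, hd⟩ := h0
    let w := stalkTensor x (Coh.structureModule X) L (ParaFLib.oneG x ⊗ₜ[X.presheaf.stalk x] e)
    have key : z = ∑ i, stalkLin (kernel.lift _ _ (hz i)) x (d i • w) := by
      refine (mono_iff_stalk (kernel.ι (q (fibreIdeal g I)))).1 inferInstance x ?_
      rw [← hc, map_sum, ← hd, Finset.sum_smul]
      refine Finset.sum_congr rfl fun i _ => ?_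
      rw [← LinearMap.comp_apply, ← stalkLin_comp, kernel.lift_ι, stalk_smulModΓ, smul_smul, mul_comm]
      rfl
    rw [key]
    exact sum_mem fun i _ => Submodule.mem_iSup_of_mem i ⟨_, rfl⟩
  have hvan : Subsingleton (Coh.HH X M₀ 1) := by
    letI : Module A (Coh.HH X M₀ 1) := Module.compHom _ (Coh.toGlobal g)
    haveI : Module.Finite A (Coh.HH X M₀ 1) :=
      ProperFin.allFin_of_isCoh (A := A) g M₀ (CurveLib.isCoh_of_isInvertible hM₀) 1
    have hmax : ∀ I : Ideal A, I.IsMaximal → (⊤ : Submodule A (Coh.HH X M₀ 1)) ≤ I • ⊤ := by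
      intro I hI z _
      obtain ⟨r, a, ha⟩ := Submodule.fg_iff_exists_fin_generating_family.1 (IsNoetherian.noetherian I)
      obtain ⟨ψ, hψ, hcov⟩ := hker I r a ha
      haveI := hq (fibreIdeal g I)
      haveI : Coh.IsQCoh (kernel (q (fibreIdeal g I))) := isQCoh_kernel _
      haveI := (fibre_gg g hg hL hnef I).2
      have hS := kerSeq_shortExact (q (fibreIdeal g I)) ((epi_iff_stalk (q (fibreIdeal g I))).1 inferInstance)
      have h2 : Subsingleton (Sheaf.H (((kerSeq (q (fibreIdeal g I))).map (QCohLib.toAbF X)).X₃) 1) :=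
        (fibre_gg g hg hL hnef I).2
      obtain ⟨y, hy⟩ : ∃ y : Coh.HH X (kernel (q (fibreIdeal g I))) 1,
          Sheaf.H.map ((QCohLib.toAbF X).map (kernel.ι (q (fibreIdeal g I)))) 1 y = z := by
        have hT := QCohLib.toAb_shortExact hS
        refine Abelian.Ext.covariant_sequence_exact₂ _ hT z ?_
        exact @Subsingleton.elim _ h2 _ _
      haveI : Coh.IsQCoh (⨁ fun _ : Fin r => M₀) := isQCoh_biproduct inferInstance
      let Ψ : (⨁ fun _ : Fin r => M₀) ⟶ kernel (q (fibreIdeal g I)) := biproduct.desc ψ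
      haveI : Epi Ψ := (epi_iff_stalk _).2 fun x v => by
        have hle : (⨆ i, LinearMap.range (stalkLin (ψ i) x)) ≤ LinearMap.range (stalkLin Ψ x) := by
          refine iSup_le fun i => ?_
          rintro _ ⟨w, rfl⟩
          refine ⟨stalkLin (biproduct.ι (fun _ : Fin r => M₀) i) x w, ?_⟩
          rw [← LinearMap.comp_apply, ← stalkLin_comp, biproduct.ι_desc]
        exact hle ((hcov x).symm ▸ Submodule.mem_top)
      obtain ⟨v, hv⟩ := surjective_H1_of_epi g hg Ψ y
      have e1 : Ψ ≫ kernel.ι (q (fibreIdeal g I)) =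
          ∑ i, biproduct.π (fun _ : Fin r => M₀) i ≫ Formal.smulModΓ M₀ (Coh.toGlobal g (a i)) := by
        show biproduct.desc ψ ≫ _ = _
        rw [biproduct.desc_eq, Preadditive.sum_comp]
        exact Finset.sum_congr rfl fun i _ => by rw [Category.assoc, hψ i]
      have e2 : z = ∑ i, a i • (Sheaf.H.map ((QCohLib.toAbF X).map (biproduct.π (fun _ : Fin r => M₀) i)) 1 v :
          Coh.HH X M₀ 1) := by
        rw [← hy, ← hv]
        refine (Sheaf.H.map_comp_apply _ _ _).symm.trans ?_
        show Sheaf.H.map ((QCohLib.toAbF X).map Ψ ≫ (QCohLib.toAbF X).map (kernel.ι _)) 1 v = _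
        rw [← Functor.map_comp, e1, Hmap_sum]
        refine Finset.sum_congr rfl fun i _ => ?_
        rw [Functor.map_comp, Sheaf.H.map_comp_apply]
        rfl
      rw [e2]
      exact sum_mem fun i _ => Submodule.smul_mem_smul (ha ▸ Submodule.subset_span ⟨i, rfl⟩) trivial
    have hann : (⊤ : Submodule A (Coh.HH X M₀ 1)).annihilator = ⊤ := by
      by_contra hne
      obtain ⟨I, hI, hle⟩ := Ideal.exists_le_maximal _ hne
      obtain ⟨r, hr, hr'⟩ := Submodule.exists_sub_one_mem_and_smul_eq_zero_of_fg_of_le_smul I _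
        Module.Finite.fg_top (hmax I hI)
      have : r ∈ I := hle (Submodule.mem_annihilator.2 fun n hn => hr' n hn)
      exact hI.ne_top ((Ideal.eq_top_iff_one _).2 (by simpa using sub_mem this hr))
    refine ⟨fun x y => ?_⟩
    have h0 : ∀ w : Coh.HH X M₀ 1, w = 0 := fun w => by
      have := Submodule.mem_annihilator.1 (hann.symm ▸ Submodule.mem_top : (1 : A) ∈ (⊤ : Submodule A (Coh.HH X M₀ 1)).annihilator) w trivial
      rwa [one_smul] at this
    rw [h0 x, h0 y]
  refine ⟨AmpleLib.isGloballyGenerated_of_iso (tmodUnit L) (AmpleEmb.isGloballyGenerated_of_genLocus hM₀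
    (fun s : (Coh.structureModule X ⟶ M₀) => s) fun x => ?_), ProjCoh.subsingleton_of_iso (tmodUnit L) 1⟩
  obtain ⟨x₀, hx₀, hx₀c⟩ := IsClosed.exists_closed_singleton (isClosed_closure (s := ({x} : Set X))) ⟨x, subset_closure rfl⟩
  suffices ∃ s : Coh.structureModule X ⟶ M₀, x₀ ∈ CohB1.genLocus M₀ s by
    obtain ⟨s, hs⟩ := this
    exact ⟨s, (specializes_iff_mem_closure.2 hx₀).mem_open (CohB1.genLocus M₀ s).2 hs⟩
  let I : Ideal A := (g x₀ : PrimeSpectrum A).asIdeal
  haveI hI : I.IsMaximal := (PrimeSpectrum.isClosed_singleton_iff_isMaximal _).1 (by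
    have := g.isClosedMap _ hx₀c
    rwa [Set.image_singleton] at this)
  have hxJ : x₀ ∈ (fibreIdeal g I).support := (mem_fibreIdeal_support_iff g I x₀).2 (comap_germA g x₀)
  obtain ⟨r, a, ha⟩ := Submodule.fg_iff_exists_fin_generating_family.1 (IsNoetherian.noetherian I)
  obtain ⟨ψ, -, hcov⟩ := hker I r a ha
  haveI := hq (fibreIdeal g I)
  haveI : Coh.IsQCoh (kernel (q (fibreIdeal g I))) := isQCoh_kernel _
  have hK := noH1Cover_rel g hg hvan r _ ψ hcov
  obtain ⟨σ, hσ⟩ := (fibre_gg g hg hL hnef I).1 x₀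
  obtain ⟨τ, hτ⟩ := SerreAff.surjective_top (q (fibreIdeal g I)) hK (AmpleLib.sec σ)
  refine ⟨DCohLib.secHom M₀ τ, ?_⟩
  obtain ⟨e, he⟩ := ParaFLib.exists_stalk_gen hL x₀
  have hgen := AmpleLib.bijective_stalkTensor (ParaFLib.bijective_oneG x₀) he
  obtain ⟨c, hc⟩ := hgen.2 (M₀.presheaf.germ ⊤ x₀ trivial τ)
  rw [AmpleLib.mem_genLocus_iff hM₀, AmpleLib.sec_secHom, ← hc]
  refine (AmpleLib.bijective_smul_iff hgen c).2 ((surjective_iff_isUnitL he hxJ σ ?_).1 hσ)
  rw [← hw x₀ e _ c]
  refine Eq.trans ?_ (congrArg (stalkLin (q (fibreIdeal g I)) x₀) hc.symm)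
  rw [stalkLin_germ, hτ]
  exact stalkLin_germ σ (U := ⊤) x₀ trivial _

end Main

end Groth.Agent.H1ZeroLib
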