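import Groth.Agent.H1ZeroLib.Coh

/-!
# The twists `O/J ⊗ L`

Stalks, sections generating at a point, vanishing of `H¹(N ⊗ L)` and gluing along `A ⊔ B`.
-/

set_option autoImplicit false
set_option backward.isDefEq.respectTransparency false
set_option backward.isDefEq.respectTransparency.types false
set_option linter.style.haveILetI false

universe u

open CategoryTheory CategoryTheory.Limits AlgebraicGeometry TopologicalSpace Opposite
open Groth.Agent.PullbackMod Groth.Agent.DCohLib Groth.Agent.CurveLib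
open scoped TensorProduct

noncomputable section

namespace Groth.Agent.H1ZeroLib

variable {X : Scheme.{u}}

theorem stalkIdeal_sup (I J : X.IdealSheafData) (x : X) :
    IntMult.stalkIdeal (I ⊔ J) x = IntMult.stalkIdeal I x ⊔ IntMult.stalkIdeal J x := by
  obtain ⟨_, ⟨U : X.Opens, hU, rfl⟩, hxU, -⟩ :=
    X.isBasis_affineOpens.exists_subset_of_mem_open (Set.mem_univ x) isOpen_univ
  rw [IdealStalkLib.stalkIdeal_eq _ ⟨U, hU⟩ x hxU, IdealStalkLib.stalkIdeal_eq I ⟨U, hU⟩ x hxU,
    IdealStalkLib.stalkIdeal_eq J ⟨U, hU⟩ x hxU, ← Ideal.map_sup]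
  rfl

/-- The twist `O/J ⊗ L`. -/
abbrev LJ (J : X.IdealSheafData) (L : X.Modules) : X.Modules := tmod (ClSub.quotMod J) L

theorem tmap_comp' {A B C : X.Modules} (f : A ⟶ B) (g : B ⟶ C) (E : X.Modules) :
    tmap (f ≫ g) E = tmap f E ≫ tmap g E := by
  simp [tmap]

theorem tmap_zero' (A B E : X.Modules) : tmap (0 : A ⟶ B) E = 0 := by
  refine hom_ext_stalk fun x => LinearMap.ext fun z => ?_
  obtain ⟨z, rfl⟩ := (stalkTensor x A E).surjective z
  rw [stalkTensor_natural_left, DevLib.stalkLin_zero, DevLib.stalkLin_zero, LinearMap.rTensor_zero]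
  simp

/-- The map of twists. -/
abbrev qmapL {J J' : X.IdealSheafData} (h : J ≤ J') (L : X.Modules) : LJ J L ⟶ LJ J' L := tmap (qmap h) L

variable {L : X.Modules}

/-- The element `r ⊗ e` of a twist. -/
def tq (J : X.IdealSheafData) (x : X) (e : L.presheaf.stalk x) (r : X.presheaf.stalk x) : (LJ J L).presheaf.stalk x :=
  stalkTensor x (ClSub.quotMod J) L (qv J x r ⊗ₜ[X.presheaf.stalk x] e)

theorem tq_smul (J : X.IdealSheafData) (x : X) (e : L.presheaf.stalk x) (a r : X.presheaf.stalk x) :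
    a • tq J x e r = tq J x e (a * r) := by
  rw [tq, tq, ← map_smul, TensorProduct.smul_tmul', qv_eq_smul J x r, smul_smul, ← qv_eq_smul]

theorem tq_add (J : X.IdealSheafData) (x : X) (e : L.presheaf.stalk x) (a b : X.presheaf.stalk x) :
    tq J x e (a + b) = tq J x e a + tq J x e b := by
  rw [tq, tq, tq, ← map_add, ← TensorProduct.add_tmul]
  congr 2
  rw [qv, qv, qv, add_smul, map_add]

section Gen

variable {x : X} {e : L.presheaf.stalk x} (he : Function.Bijective fun r : X.presheaf.stalk x => r • e)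

include he in
theorem tq_surjective (J : X.IdealSheafData) : Function.Surjective (tq (L := L) J x e) := fun z => by
  obtain ⟨z, rfl⟩ := (stalkTensor x (ClSub.quotMod J) L).surjective z
  induction z with
  | zero => exact ⟨0, by rw [tq, (qv_eq_zero_iff J x 0).2 (zero_mem _), TensorProduct.zero_tmul]⟩
  | tmul n l =>
    obtain ⟨a, rfl⟩ := qv_surjective J x n
    obtain ⟨b, rfl⟩ := he.2 l
    refine ⟨b * a, ?_⟩
    show tq J x e (b * a) = stalkTensor x (ClSub.quotMod J) L (qv J x a ⊗ₜ[X.presheaf.stalk x] (b • e))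
    rw [TensorProduct.tmul_smul, map_smul, ← tq_smul]
    rfl
  | add a b ha hb =>
    obtain ⟨a', ha'⟩ := ha
    obtain ⟨b', hb'⟩ := hb
    exact ⟨a' + b', by rw [tq_add, ha', hb', map_add]⟩

include he in
theorem tq_eq_zero_iff (J : X.IdealSheafData) (r : X.presheaf.stalk x) :
    tq J x e r = 0 ↔ r ∈ IntMult.stalkIdeal J x := by
  rw [← qv_eq_zero_iff]
  let ε : X.presheaf.stalk x ≃ₗ[X.presheaf.stalk x] L.presheaf.stalk x :=
    LinearEquiv.ofBijective (LinearMap.toSpanSingleton _ _ e) he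
  let E := (TensorProduct.rid (X.presheaf.stalk x) ((ClSub.quotMod J).presheaf.stalk x)).symm.trans
    (LinearEquiv.lTensor ((ClSub.quotMod J).presheaf.stalk x) ε)
  have hE : E (qv J x r) = qv J x r ⊗ₜ[X.presheaf.stalk x] e := by
    simp [E, ε]
  rw [tq, LinearEquiv.map_eq_zero_iff, ← hE, LinearEquiv.map_eq_zero_iff]

theorem stalk_qmapL {J J' : X.IdealSheafData} (h : J ≤ J') (r : X.presheaf.stalk x) :
    stalkLin (qmapL h L) x (tq J x e r) = tq J' x e r := by
  rw [tq, tq, stalkTensor_natural_left, LinearMap.rTensor_tmul, stalk_qmap]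

include he in
theorem surjective_qmapL {J J' : X.IdealSheafData} (h : J ≤ J') : Function.Surjective (stalkLin (qmapL h L) x) :=
  fun z => by
    obtain ⟨r, rfl⟩ := tq_surjective he J' z
    exact ⟨_, stalk_qmapL h r⟩

include he in
/-- A section of `O/J ⊗ L` generates at `x` iff its coefficient is a unit. -/
theorem surjective_iff_isUnitL {J : X.IdealSheafData} (hx : x ∈ J.support)
    (σ : Coh.structureModule X ⟶ LJ J L) {r : X.presheaf.stalk x}
    (hr : stalkLin σ x (ParaFLib.oneG x) = tq J x e r) : Function.Surjective (stalkLin σ x) ↔ IsUnit r := by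
  constructor
  · intro h
    obtain ⟨w, hw⟩ := h (tq J x e 1)
    obtain ⟨a, rfl⟩ := (ParaFLib.bijective_oneG x).2 w
    rw [map_smul, hr, tq_smul] at hw
    have h2 : tq J x e (a * r + -1) = 0 := by
      rw [tq_add, hw, ← tq_add, add_neg_cancel, tq_eq_zero_iff he]
      exact zero_mem _
    have h3 := stalkIdeal_le_maximal hx ((tq_eq_zero_iff he J _).1 h2)
    by_contra hu
    have h4 : a * r ∈ IsLocalRing.maximalIdeal (X.presheaf.stalk x) := Ideal.mul_mem_left _ a hu
    have h5 : a * r - (a * r + -1) ∈ IsLocalRing.maximalIdeal (X.presheaf.stalk x) := sub_mem h4 h3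
    rw [sub_add_cancel_left, neg_neg] at h5
    exact h5 isUnit_one
  · rintro ⟨v, rfl⟩ z
    obtain ⟨s, rfl⟩ := tq_surjective he J z
    exact ⟨(s * ↑v⁻¹) • ParaFLib.oneG x, by rw [map_smul, hr, tq_smul, mul_assoc, Units.inv_mul, mul_one]⟩

end Gen

theorem surjective_of_notMem_supportL (hL : PicF.IsInvertible L) {J : X.IdealSheafData} {x : X}
    (hx : x ∉ J.support) (σ : Coh.structureModule X ⟶ LJ J L) : Function.Surjective (stalkLin σ x) := fun z => by
  obtain ⟨e, he⟩ := ParaFLib.exists_stalk_gen hL x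
  obtain ⟨r, rfl⟩ := tq_surjective he J z
  refine ⟨0, ?_⟩
  rw [map_zero]
  refine ((tq_eq_zero_iff he J r).2 ?_).symm
  rw [IdealMulLib.stalkIdeal_eq_top J hx]
  trivial

/-- Generation of `O/J ⊗ L` is detected in a quotient with the same point in its support. -/
theorem surjective_of_qmapL (hL : PicF.IsInvertible L) {J J' : X.IdealSheafData} (h : J ≤ J') {x : X}
    (hx : x ∈ J'.support) (σ : Coh.structureModule X ⟶ LJ J L)
    (hσ : Function.Surjective (stalkLin (σ ≫ qmapL h L) x)) : Function.Surjective (stalkLin σ x) := by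
  obtain ⟨e, he⟩ := ParaFLib.exists_stalk_gen hL x
  obtain ⟨r, hr⟩ := tq_surjective he J (stalkLin σ x (ParaFLib.oneG x))
  refine (surjective_iff_isUnitL he (Scheme.IdealSheafData.support_antitone h hx) σ hr.symm).2
    ((surjective_iff_isUnitL he hx (σ ≫ qmapL h L) ?_).1 hσ)
  rw [stalkLin_comp, LinearMap.comp_apply, ← hr, stalk_qmapL]

/-- `O/J ⊗ L` is globally generated. -/
def GG (J : X.IdealSheafData) (L : X.Modules) : Prop :=
  ∀ x, ∃ σ : Coh.structureModule X ⟶ LJ J L, Function.Surjective (stalkLin σ x)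

/-! ### Kernels along a union -/

section Union

variable {J A B : X.IdealSheafData} (hJA : J ≤ A) (hJB : J ≤ B)

theorem kerMap_aux (L : X.Modules) :
    (kernel.ι (qmapL hJB L) ≫ qmapL hJA L) ≫ qmapL (le_sup_left : A ≤ A ⊔ B) L = 0 := by
  have h : qmap hJA ≫ qmap (le_sup_left : A ≤ A ⊔ B) = qmap hJB ≫ qmap (le_sup_right : B ≤ A ⊔ B) := by
    haveI : Epi (ClSub.toSubscheme J) := HilbObsLib.epi_toSubscheme J
    rw [← cancel_epi (ClSub.toSubscheme J), ← Category.assoc, ← Category.assoc, toSubscheme_qmap,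
      toSubscheme_qmap, toSubscheme_qmap, toSubscheme_qmap]
  have h' : qmapL hJA L ≫ qmapL (le_sup_left : A ≤ A ⊔ B) L = qmapL hJB L ≫ qmapL (le_sup_right : B ≤ A ⊔ B) L := by
    rw [qmapL, qmapL, qmapL, qmapL, ← tmap_comp', ← tmap_comp', h]
  rw [Category.assoc, h', ← Category.assoc, kernel.condition, zero_comp]

/-- The comparison of kernels. -/
def kerMap (L : X.Modules) : kernel (qmapL hJB L) ⟶ kernel (qmapL (le_sup_left : A ≤ A ⊔ B) L) :=
  kernel.lift _ (kernel.ι (qmapL hJB L) ≫ qmapL hJA L) (kerMap_aux hJA hJB L)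

theorem kerMap_ι (L : X.Modules) :
    kerMap hJA hJB L ≫ kernel.ι _ = kernel.ι (qmapL hJB L) ≫ qmapL hJA L := kernel.lift_ι _ _ _

theorem surjective_kerMap (hL : PicF.IsInvertible L) (x : X) :
    Function.Surjective (stalkLin (kerMap hJA hJB L) x) := fun w => by
  obtain ⟨e, he⟩ := ParaFLib.exists_stalk_gen hL x
  obtain ⟨r, hr⟩ := tq_surjective he A (stalkLin (kernel.ι (qmapL (le_sup_left : A ≤ A ⊔ B) L)) x w)
  have h0 := HilbObsLib.stalk_kernel_ι_comp (qmapL (le_sup_left : A ≤ A ⊔ B) L) x w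
  rw [← hr, stalk_qmapL, tq_eq_zero_iff he, stalkIdeal_sup] at h0
  obtain ⟨a, ha, b, hb, rfl⟩ := Submodule.mem_sup.1 h0
  obtain ⟨v, hv⟩ := HilbObsLib.stalk_kernel_ι_exists (qmapL hJB L) x (x := tq J x e b)
    ((stalk_qmapL hJB b).trans ((tq_eq_zero_iff he B b).2 hb))
  refine ⟨v, (mono_iff_stalk (kernel.ι (qmapL (le_sup_left : A ≤ A ⊔ B) L))).1 inferInstance x ?_⟩
  rw [← LinearMap.comp_apply, ← stalkLin_comp, kerMap_ι, stalkLin_comp, LinearMap.comp_apply, hv, stalk_qmapL, ← hr,
    tq_add, (tq_eq_zero_iff he A a).2 ha, zero_add]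

theorem injective_kerMap (hL : PicF.IsInvertible L)
    (hinf : ∀ x, IntMult.stalkIdeal A x ⊓ IntMult.stalkIdeal B x ≤ IntMult.stalkIdeal J x) (x : X) :
    Function.Injective (stalkLin (kerMap hJA hJB L) x) := by
  rw [injective_iff_map_eq_zero]
  intro v hv
  obtain ⟨e, he⟩ := ParaFLib.exists_stalk_gen hL x
  obtain ⟨r, hr⟩ := tq_surjective he J (stalkLin (kernel.ι (qmapL hJB L)) x v)
  have hB := HilbObsLib.stalk_kernel_ι_comp (qmapL hJB L) x v
  rw [← hr, stalk_qmapL, tq_eq_zero_iff he] at hB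
  have hA : stalkLin (qmapL hJA L) x (stalkLin (kernel.ι (qmapL hJB L)) x v) = 0 := by
    rw [← LinearMap.comp_apply, ← stalkLin_comp, ← kerMap_ι hJA hJB, stalkLin_comp, LinearMap.comp_apply, hv, map_zero]
  rw [← hr, stalk_qmapL, tq_eq_zero_iff he] at hA
  refine (mono_iff_stalk (kernel.ι (qmapL hJB L))).1 inferInstance x ?_
  rw [map_zero, ← hr, tq_eq_zero_iff he]
  exact hinf x ⟨hA, hB⟩

end Union

/-! ### Cohomology -/

variable {k : Type u} [Field k] [X.Over (Spec (CommRingCat.of k))] [IsProper (X ↘ Spec (CommRingCat.of k))]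
  (hdim : topologicalKrullDim X ≤ 1)

include k in
/-- Among a basis of sections one generates at every point of the support. -/
theorem exists_finite_gen (hL : PicF.IsInvertible L) {J : X.IdealSheafData} (hG : GG J L) :
    ∃ (n : ℕ) (σ : Fin n → (Coh.structureModule X ⟶ LJ J L)),
      ∀ x ∈ J.support, ∃ i, Function.Surjective (stalkLin (σ i) x) := by
  haveI := EulerIneqLib.isNoetherian_proper (X := X) k
  haveI := EulerIneqLib.finite_HH (k := k) (isCoh_tmod (IntLib.isCoh_quotMod J) (isCoh_of_isInvertible hL)) 0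
  let b := Module.finBasis k (Coh.HH X (LJ J L) 0)
  refine ⟨_, fun i => DCohLib.secHom _ (secOf _ (b i)), fun x hx => ?_⟩
  obtain ⟨e, he⟩ := ParaFLib.exists_stalk_gen hL x
  obtain ⟨τ, hτ⟩ := hG x
  by_contra hne
  push Not at hne
  choose r hr using fun i => tq_surjective he J (stalkLin (DCohLib.secHom (LJ J L) (secOf _ (b i))) x (ParaFLib.oneG x))
  have hrm : ∀ i, r i ∈ IsLocalRing.maximalIdeal (X.presheaf.stalk x) := fun i hu =>
    hne i ((surjective_iff_isUnitL he hx _ (hr i).symm).2 hu)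
  let c := (secOf (LJ J L)).symm (AmpleLib.sec τ)
  have hτe : stalkLin τ x (ParaFLib.oneG x) = tq J x e
      (∑ i, X.presheaf.germ ⊤ x trivial (Coh.toGlobal (X ↘ Spec (CommRingCat.of k)) (b.repr c i)) * r i) := by
    have h1 : stalkLin τ x (ParaFLib.oneG x) = (LJ J L).presheaf.germ ⊤ x trivial (secOf (LJ J L) c) := by
      rw [AddEquiv.apply_symm_apply, ← CurveLib.stalkLin_secHom, AmpleLib.secHom_sec]
    rw [h1, ← b.sum_repr c, map_sum, map_sum]
    let φ : X.presheaf.stalk x →+ (LJ J L).presheaf.stalk x := AddMonoidHom.mk' (tq J x e) (tq_add J x e)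
    show _ = φ _
    rw [map_sum, b.sum_repr c]
    refine Finset.sum_congr rfl fun i _ => ?_
    show _ = tq J x e _
    rw [← tq_smul, hr i, secOf_smul, ParaFLib.germ_smul', CurveLib.stalkLin_secHom]
  exact ((IsLocalRing.maximalIdeal _).sum_mem fun i _ => Ideal.mul_mem_left _ _ (hrm i) :
    _ ∈ IsLocalRing.maximalIdeal (X.presheaf.stalk x)) ((surjective_iff_isUnitL he hx τ hτe).1 hτ)

include k hdim in
/-- `H¹(N ⊗ L) = 0` when `H¹(N) = 0` and `L` is generated where `N` lives. -/
theorem subsingleton_H1_twist (hL : PicF.IsInvertible L) {A : X.IdealSheafData} {N : X.Modules}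
    (hN : Killed A N) [Subsingleton (Coh.HH X N 1)] (hG : GG A L) : Subsingleton (Coh.HH X (tmod N L) 1) := by
  let φ := tmap (ClSub.toSubscheme A) L
  haveI hiso : IsIso (((DCoh.tensorBi (X := X)).obj N).map φ) := by
    refine isIso_mulR _ (fun x z => ?_) fun x n a ha => ?_
    · obtain ⟨e, he⟩ := ParaFLib.exists_stalk_gen hL x
      obtain ⟨r, rfl⟩ := tq_surjective he A z
      refine ⟨stalkTensor x (Coh.structureModule X) L ((r • ParaFLib.oneG x) ⊗ₜ[X.presheaf.stalk x] e), ?_⟩
      rw [stalkTensor_natural_left, LinearMap.rTensor_tmul]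
      rfl
    · obtain ⟨e, he⟩ := ParaFLib.exists_stalk_gen hL x
      obtain ⟨r, rfl⟩ := (AmpleLib.bijective_stalkTensor (ParaFLib.bijective_oneG x) he).2 a
      have h0 : r ∈ IntMult.stalkIdeal A x := (tq_eq_zero_iff he A r).1 (by
        refine Eq.trans ?_ ha
        dsimp only
        rw [← map_smul (stalkTensor x (Coh.structureModule X) L), TensorProduct.smul_tmul', stalkTensor_natural_left,
          LinearMap.rTensor_tmul]
        rfl)
      show n ⊗ₜ[X.presheaf.stalk x] (r • _) = 0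
      rw [← TensorProduct.smul_tmul, hN x r h0 n, TensorProduct.zero_tmul]
  obtain ⟨n, σ, hσ⟩ := exists_finite_gen (k := k) hL hG
  haveI : Subsingleton (Coh.HH X (tmod N (tmod (Coh.structureModule X) L)) 1) := by
    refine subsingleton_H1_of_jointly (k := k) hdim n _
      (fun i => (tensorStructureIso N).inv ≫ mulS N (σ i) ≫ inv (((DCoh.tensorBi (X := X)).obj N).map φ)) fun x => ?_
    by_cases hx : x ∈ A.support
    · obtain ⟨i, hi⟩ := hσ x hx
      refine eq_top_iff.2 fun z _ => Submodule.mem_iSup_of_mem i ?_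
      rw [stalkLin_comp, stalkLin_comp]
      refine LinearMap.mem_range.2 ?_
      refine Function.Surjective.comp (g := stalkLin (inv (((DCoh.tensorBi (X := X)).obj N).map φ)) x ∘
        stalkLin (mulS N (σ i)) x) ?_ ((isIso_iff_stalk (tensorStructureIso N).inv).1 inferInstance x).2 z
      refine Function.Surjective.comp ((isIso_iff_stalk _).1 inferInstance x).2 fun w => ?_
      obtain ⟨w, rfl⟩ := (stalkTensor x N (LJ A L)).surjective w
      obtain ⟨v, rfl⟩ := LinearMap.lTensor_surjective (N.presheaf.stalk x) hi w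
      exact ⟨stalkTensor x N _ v, stalkTensor_natural_right x _ v⟩
    · haveI : Subsingleton (N.presheaf.stalk x) := ⟨fun a b => by
        have key : ∀ m : N.presheaf.stalk x, m = 0 := fun m => by
          have h := hN x 1 (by rw [IdealMulLib.stalkIdeal_eq_top A hx]; trivial) m
          rwa [one_smul] at h
        rw [key a, key b]⟩
      haveI : Subsingleton ((tmod N (tmod (Coh.structureModule X) L)).presheaf.stalk x) :=
        (stalkTensor x N _).symm.injective.subsingleton
      exact Subsingleton.elim _ _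
  exact ProjCoh.subsingleton_of_iso (((DCoh.tensorBi (X := X)).obj N).mapIso (tmodUnit L)) 1

include k hdim in
/-- The kernel of `O/J ⊗ L ⟶ O/B ⊗ L` has no `H¹`. -/
theorem subsingleton_H1_kerL (hL : PicF.IsInvertible L) {J B A : X.IdealSheafData} (hJB : J ≤ B)
    (hN : Killed A (kernel (qmap hJB))) [Subsingleton (Coh.HH X (kernel (qmap hJB)) 1)] (hG : GG A L) :
    Subsingleton (Coh.HH X (kernel (qmapL hJB L)) 1) := by
  haveI := subsingleton_H1_twist (k := k) hdim hL hN hG
  have h0 : tmap (kernel.ι (qmap hJB)) L ≫ qmapL hJB L = 0 := by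
    rw [qmapL, ← tmap_comp', kernel.condition, tmap_zero']
  refine subsingleton_H1_of_surjective (k := k) hdim (kernel.lift (qmapL hJB L) _ h0) fun x w => ?_
  obtain ⟨e, he⟩ := ParaFLib.exists_stalk_gen hL x
  obtain ⟨r, hr⟩ := tq_surjective he J (stalkLin (kernel.ι (qmapL hJB L)) x w)
  have hB := HilbObsLib.stalk_kernel_ι_comp (qmapL hJB L) x w
  rw [← hr, stalk_qmapL, tq_eq_zero_iff he] at hB
  obtain ⟨n, hn⟩ := HilbObsLib.stalk_kernel_ι_exists (qmap hJB) x (x := qv J x r)
    ((stalk_qmap hJB x r).trans ((qv_eq_zero_iff B x r).2 hB))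
  refine ⟨stalkTensor x _ L (n ⊗ₜ[X.presheaf.stalk x] e),
    (mono_iff_stalk (kernel.ι (qmapL hJB L))).1 inferInstance x ?_⟩
  rw [← LinearMap.comp_apply, ← stalkLin_comp, kernel.lift_ι, stalkTensor_natural_left, LinearMap.rTensor_tmul, hn, ← hr]
  rfl

end Groth.Agent.H1ZeroLib
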