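import Groth.Agent.SingRRLib.Core
import Groth.Agent.InfNbhdLib.Scheme
import Groth.Agent.DivisorialLib.Basic
import Groth.Agent.AmpleLib.GenLocus

/-!
# Quotients of the structure sheaf and their stalks

The quotient maps `O/J ⟶ O/J'`, multiplication of a module killed by `J` by sections of `O/J`, and
the stalks of `O/J ⊗ L`.
-/

set_option autoImplicit false
set_option backward.isDefEq.respectTransparency false
set_option backward.isDefEq.respectTransparency.types false
set_option linter.style.haveILetI false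

universe u

open CategoryTheory CategoryTheory.Limits AlgebraicGeometry TopologicalSpace Opposite
open Groth.Agent.PullbackMod Groth.Agent.DCohLib Groth.Agent.CurveLib
open scoped TensorProduct

noncomputable section

namespace Groth.Agent.H1ZeroLib

variable {X : Scheme.{u}}

/-- The stalk of the quotient map `O ⟶ O/J`, on coefficients. -/
def qv (J : X.IdealSheafData) (x : X) (r : X.presheaf.stalk x) : (ClSub.quotMod J).presheaf.stalk x :=
  stalkLin (ClSub.toSubscheme J) x (r • ParaFLib.oneG x)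

theorem qv_eq_smul (J : X.IdealSheafData) (x : X) (r : X.presheaf.stalk x) : qv J x r = r • qv J x 1 := by
  rw [qv, qv, one_smul, map_smul]

theorem qv_surjective (J : X.IdealSheafData) (x : X) : Function.Surjective (qv J x) := fun z => by
  haveI : Epi (ClSub.toSubscheme J) := HilbObsLib.epi_toSubscheme J
  obtain ⟨w, hw⟩ := (epi_iff_stalk (ClSub.toSubscheme J)).1 inferInstance x z
  obtain ⟨r, rfl⟩ := (ParaFLib.bijective_oneG x).2 w
  exact ⟨r, hw⟩

theorem qv_eq_zero_iff (J : X.IdealSheafData) (x : X) (r : X.presheaf.stalk x) :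
    qv J x r = 0 ↔ r ∈ IntMult.stalkIdeal J x := by
  rw [← HilbObsLib.mem_range_idealModι J x r]
  exact ⟨fun h => HilbObsLib.stalk_kernel_ι_exists (ClSub.toSubscheme J) x h,
    fun ⟨n, hn⟩ => by rw [qv, ← hn]; exact HilbObsLib.stalk_kernel_ι_comp (ClSub.toSubscheme J) x n⟩

theorem stalkIdeal_mono {J J' : X.IdealSheafData} (h : J ≤ J') (x : X) :
    IntMult.stalkIdeal J x ≤ IntMult.stalkIdeal J' x := by
  obtain ⟨_, ⟨U : X.Opens, hU, rfl⟩, hxU, -⟩ :=
    X.isBasis_affineOpens.exists_subset_of_mem_open (Set.mem_univ x) isOpen_univ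
  rw [IdealStalkLib.stalkIdeal_eq J ⟨U, hU⟩ x hxU, IdealStalkLib.stalkIdeal_eq J' ⟨U, hU⟩ x hxU]
  exact Ideal.map_mono (h _)

theorem stalkIdeal_le_maximal {J : X.IdealSheafData} {x : X} (hx : x ∈ J.support) :
    IntMult.stalkIdeal J x ≤ IsLocalRing.maximalIdeal (X.presheaf.stalk x) :=
  IdealStalkLib.stalkIdeal_le_maximal J hx

theorem mem_support_iff_stalk (J : X.IdealSheafData) (x : X) :
    x ∈ J.support ↔ IntMult.stalkIdeal J x ≠ ⊤ :=
  ⟨fun hx h => (IsLocalRing.maximalIdeal.isMaximal (X.presheaf.stalk x)).ne_top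
    (top_le_iff.1 (h ▸ stalkIdeal_le_maximal hx)), DivisorialLib.mem_support_of_ne_top⟩

theorem qmap_aux {J J' : X.IdealSheafData} (h : J ≤ J') :
    kernel.ι (ClSub.toSubscheme J) ≫ ClSub.toSubscheme J' = 0 := by
  refine hom_ext_stalk fun x => LinearMap.ext fun n => ?_
  obtain ⟨r, hr⟩ := (ParaFLib.bijective_oneG x).2 (stalkLin (kernel.ι (ClSub.toSubscheme J)) x n)
  change r • ParaFLib.oneG x = _ at hr
  rw [stalkLin_comp, LinearMap.comp_apply, DevLib.stalkLin_zero, LinearMap.zero_apply, ← hr]
  exact (qv_eq_zero_iff J' x r).2 (stalkIdeal_mono h x ((HilbObsLib.mem_range_idealModι J x r).1 ⟨n, hr.symm⟩))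

/-- The quotient map `O/J ⟶ O/J'`. -/
def qmap {J J' : X.IdealSheafData} (h : J ≤ J') : ClSub.quotMod J ⟶ ClSub.quotMod J' :=
  haveI : Epi (ClSub.toSubscheme J) := HilbObsLib.epi_toSubscheme J
  Abelian.epiDesc (ClSub.toSubscheme J) (ClSub.toSubscheme J') (qmap_aux h)

theorem toSubscheme_qmap {J J' : X.IdealSheafData} (h : J ≤ J') :
    ClSub.toSubscheme J ≫ qmap h = ClSub.toSubscheme J' := by
  haveI : Epi (ClSub.toSubscheme J) := HilbObsLib.epi_toSubscheme J
  exact Abelian.comp_epiDesc _ _ _

theorem stalk_qmap {J J' : X.IdealSheafData} (h : J ≤ J') (x : X) (r : X.presheaf.stalk x) :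
    stalkLin (qmap h) x (qv J x r) = qv J' x r := by
  rw [qv, ← LinearMap.comp_apply, ← stalkLin_comp, toSubscheme_qmap]
  rfl

theorem surjective_qmap {J J' : X.IdealSheafData} (h : J ≤ J') (x : X) :
    Function.Surjective (stalkLin (qmap h) x) := fun z => by
  obtain ⟨r, rfl⟩ := qv_surjective J' x z
  exact ⟨_, stalk_qmap h x r⟩

/-- A section of `O/J` generates at `x` iff its germ is a unit, on the support. -/
theorem surjective_iff_isUnit {J : X.IdealSheafData} {x : X} (hx : x ∈ J.support)
    (σ : Coh.structureModule X ⟶ ClSub.quotMod J) {r : X.presheaf.stalk x}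
    (hr : stalkLin σ x (ParaFLib.oneG x) = qv J x r) : Function.Surjective (stalkLin σ x) ↔ IsUnit r := by
  constructor
  · intro h
    obtain ⟨w, hw⟩ := h (qv J x 1)
    obtain ⟨a, rfl⟩ := (ParaFLib.bijective_oneG x).2 w
    rw [map_smul, hr, qv_eq_smul J x r, smul_smul, ← qv_eq_smul] at hw
    have h2 : qv J x (a * r - 1) = 0 := by
      rw [qv, sub_smul, map_sub]
      exact sub_eq_zero.2 hw
    have h3 := stalkIdeal_le_maximal hx ((qv_eq_zero_iff J x _).1 h2)
    by_contra hu
    exact h3 (by
      have : a * r ∈ IsLocalRing.maximalIdeal (X.presheaf.stalk x) := Ideal.mul_mem_left _ a hu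
      simpa using (IsLocalRing.isUnit_one_sub_self_of_mem_nonunits _ this).neg)
  · rintro ⟨v, rfl⟩ z
    obtain ⟨s, rfl⟩ := qv_surjective J x z
    refine ⟨(s * ↑v⁻¹) • ParaFLib.oneG x, ?_⟩
    rw [map_smul, hr, qv_eq_smul J x (v : X.presheaf.stalk x), smul_smul, mul_assoc, Units.inv_mul, mul_one,
      ← qv_eq_smul]

theorem surjective_of_notMem_support {J : X.IdealSheafData} {x : X} (hx : x ∉ J.support)
    (σ : Coh.structureModule X ⟶ ClSub.quotMod J) : Function.Surjective (stalkLin σ x) := fun z => by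
  obtain ⟨s, rfl⟩ := qv_surjective J x z
  refine ⟨0, ?_⟩
  rw [map_zero]
  refine ((qv_eq_zero_iff J x s).2 ?_).symm
  rw [IdealMulLib.stalkIdeal_eq_top J hx]
  trivial

/-- Generation of `O/J` is detected in a quotient with the same point in its support. -/
theorem surjective_of_qmap {J J' : X.IdealSheafData} (h : J ≤ J') {x : X} (hx : x ∈ J'.support)
    (σ : Coh.structureModule X ⟶ ClSub.quotMod J) (hσ : Function.Surjective (stalkLin (σ ≫ qmap h) x)) :
    Function.Surjective (stalkLin σ x) := by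
  obtain ⟨r, hr⟩ := qv_surjective J x (stalkLin σ x (ParaFLib.oneG x))
  refine (surjective_iff_isUnit (Scheme.IdealSheafData.support_antitone h hx) σ hr.symm).2
    ((surjective_iff_isUnit hx (σ ≫ qmap h) ?_).1 hσ)
  rw [stalkLin_comp, LinearMap.comp_apply, ← hr, stalk_qmap]

/-- Tensoring with a stalkwise surjection whose kernel acts by zero is an isomorphism. -/
theorem isIso_mulR {N A B : X.Modules} (φ : A ⟶ B) (hs : ∀ x, Function.Surjective (stalkLin φ x))
    (hk : ∀ x (n : N.presheaf.stalk x) (a : A.presheaf.stalk x), stalkLin φ x a = 0 →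
      n ⊗ₜ[X.presheaf.stalk x] a = 0) : IsIso (((DCoh.tensorBi (X := X)).obj N).map φ) := by
  refine (isIso_iff_stalk _).2 fun x => ?_
  have hc : (stalkLin (((DCoh.tensorBi (X := X)).obj N).map φ) x ∘ stalkTensor x N A) =
      stalkTensor x N B ∘ (stalkLin φ x).lTensor (N.presheaf.stalk x) :=
    funext fun z => stalkTensor_natural_right x φ z
  refine (Function.Bijective.of_comp_iff _ (stalkTensor x N A).bijective).1 ?_
  rw [hc]
  refine (stalkTensor x N B).bijective.comp ⟨?_, LinearMap.lTensor_surjective _ (hs x)⟩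
  rw [injective_iff_map_eq_zero]
  intro z hz
  obtain ⟨w, rfl⟩ := (lTensor_exact (N.presheaf.stalk x) (LinearMap.exact_subtype_ker_map (stalkLin φ x)) (hs x) z).1 hz
  clear hz
  induction w with
  | zero => rw [map_zero]
  | tmul n a => rw [LinearMap.lTensor_tmul]; exact hk x n a.1 a.2
  | add a b ha hb => rw [map_add, ha, hb, add_zero]

/-- A module killed by `J` on stalks. -/
def Killed (J : X.IdealSheafData) (N : X.Modules) : Prop :=
  ∀ x, ∀ r ∈ IntMult.stalkIdeal J x, ∀ n : N.presheaf.stalk x, r • n = 0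

theorem Killed.of_mono {J : X.IdealSheafData} {N M : X.Modules} (ι : N ⟶ M) [Mono ι] (h : Killed J M) :
    Killed J N := fun x r hr n => (mono_iff_stalk ι).1 inferInstance x (by
  rw [map_smul, map_zero, h x r hr])

theorem killed_quotMod (J : X.IdealSheafData) : Killed J (ClSub.quotMod J) := fun x r hr n => by
  obtain ⟨s, rfl⟩ := qv_surjective J x n
  rw [qv_eq_smul, smul_smul, ← qv_eq_smul]
  exact (qv_eq_zero_iff J x _).2 (Ideal.mul_mem_right _ _ hr)

/-- `N ⊗ O ≅ N ⊗ O/J` for a module killed by `J`. -/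
theorem isIso_mulS_toSubscheme {J : X.IdealSheafData} {N : X.Modules} (hN : Killed J N) :
    IsIso (mulS N (ClSub.toSubscheme J)) := by
  haveI : Epi (ClSub.toSubscheme J) := HilbObsLib.epi_toSubscheme J
  refine isIso_mulR _ (fun x => (epi_iff_stalk (ClSub.toSubscheme J)).1 inferInstance x) fun x n a ha => ?_
  obtain ⟨r, rfl⟩ := (ParaFLib.bijective_oneG x).2 a
  show n ⊗ₜ[X.presheaf.stalk x] (r • ParaFLib.oneG x) = 0
  rw [← TensorProduct.smul_tmul, hN x r ((qv_eq_zero_iff J x r).1 ha) n, TensorProduct.zero_tmul]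

/-- A section generating wherever `N` is nonzero gives an isomorphism `N ⊗ O ≅ N ⊗ O/J`. -/
theorem isIso_mulS_section {J : X.IdealSheafData} {N : X.Modules} (hN : Killed J N)
    (σ : Coh.structureModule X ⟶ ClSub.quotMod J)
    (hσ : ∀ x ∈ CohB1.support N, Function.Surjective (stalkLin σ x)) : IsIso (mulS N σ) := by
  refine (isIso_iff_stalk _).2 fun x => ?_
  by_cases hx : x ∈ CohB1.support N
  swap
  · haveI := DevLib.subsingleton_of_notMem hx
    haveI : ∀ B : X.Modules, Subsingleton ((tmod N B).presheaf.stalk x) := fun B =>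
      (stalkTensor x N B).symm.injective.subsingleton
    exact ⟨Function.injective_of_subsingleton _, Function.surjective_to_subsingleton _⟩
  haveI := isIso_mulS_toSubscheme hN
  obtain ⟨r, hr⟩ := qv_surjective J x (stalkLin σ x (ParaFLib.oneG x))
  by_cases hxJ : x ∈ J.support
  swap
  · exfalso
    refine hx ⟨fun a b => ?_⟩
    have key : ∀ n : N.presheaf.stalk x, n = 0 := fun n => by
      have h := hN x 1 (by rw [IdealMulLib.stalkIdeal_eq_top J hxJ]; trivial) n
      rwa [one_smul] at h
    rw [key a, key b]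
  obtain ⟨v, hv⟩ := (surjective_iff_isUnit hxJ σ hr.symm).1 (hσ x hx)
  have he : stalkLin (mulS N σ) x = (r • LinearMap.id).comp (stalkLin (mulS N (ClSub.toSubscheme J)) x) := by
    refine LinearMap.ext fun z => ?_
    obtain ⟨z, rfl⟩ := (stalkTensor x N (Coh.structureModule X)).surjective z
    rw [LinearMap.comp_apply, LinearMap.smul_apply, LinearMap.id_apply, stalkTensor_natural_right,
      stalkTensor_natural_right, ← map_smul]
    congr 1
    induction z with
    | zero => simp
    | add a b ha hb => rw [map_add, map_add, ha, hb, smul_add]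
    | tmul n a =>
      obtain ⟨c, rfl⟩ := (ParaFLib.bijective_oneG x).2 a
      rw [LinearMap.lTensor_tmul, LinearMap.lTensor_tmul, map_smul, map_smul, ← hr, qv_eq_smul J x r,
        ← TensorProduct.tmul_smul, smul_comm r c]
      rw [qv, one_smul]
  rw [he, LinearMap.coe_comp]
  refine Function.Bijective.comp ?_ ((isIso_iff_stalk (mulS N (ClSub.toSubscheme J))).1 inferInstance x)
  rw [← hv]
  exact ⟨fun a b h => by simpa [smul_smul] using congrArg ((↑v⁻¹ : X.presheaf.stalk x) • ·) h,
    fun a => ⟨(↑v⁻¹ : X.presheaf.stalk x) • a, by simp [smul_smul]⟩⟩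

end Groth.Agent.H1ZeroLib
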