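import Groth.Agent.H1ZeroLib.Quot

/-!
# Lifting functions when `H¹(O) = 0`

On a proper scheme of dimension at most one with `H¹(O) = 0`, let `J ≤ B` and let the kernel of
`O/J ⟶ O/B` be killed by `A ≤ A'`, where every nonzero function on `A'` generates everywhere and every
such function lifts to `A`.  If there are at most as many functions on `B` as on `A'`, then the kernel
has no `H¹`: a nonzero class would be moved injectively by the functions on `A'`, but the `H¹` of the
kernel is the cokernel of `H⁰(O/J) ⟶ H⁰(O/B)`, which is smaller because `1` lifts.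
-/

set_option autoImplicit false
set_option backward.isDefEq.respectTransparency false
set_option backward.isDefEq.respectTransparency.types false
set_option linter.style.haveILetI false

universe u

open CategoryTheory CategoryTheory.Limits AlgebraicGeometry TopologicalSpace Opposite
open Groth.Agent.PullbackMod Groth.Agent.DCohLib Groth.Agent.CurveLib
open scoped TensorProduct

noncomputable section

namespace Groth.Agent.H1ZeroLib

variable {k : Type u} [Field k] {X : Scheme.{u}} [X.Over (Spec (CommRingCat.of k))]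

/-- The short exact sequence of an epimorphism. -/
abbrev kerSeq {M N : X.Modules} (φ : M ⟶ N) : ShortComplex X.Modules :=
  ShortComplex.mk (kernel.ι φ) φ (kernel.condition φ)

theorem kerSeq_shortExact {M N : X.Modules} (φ : M ⟶ N) (h : ∀ x, Function.Surjective (stalkLin φ x)) :
    (kerSeq φ).ShortExact :=
  ShortComplex.ShortExact.mk' (ShortComplex.exact_of_f_is_kernel _ (kernelIsKernel φ))
    (inferInstanceAs (Mono (kernel.ι φ))) ((epi_iff_stalk φ).2 h)

/-- Sections lift when the kernel has no `H¹`. -/
theorem surjective_H0 {M N : X.Modules} (φ : M ⟶ N) (h : ∀ x, Function.Surjective (stalkLin φ x))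
    [Subsingleton (Coh.HH X (kernel φ) 1)] : Function.Surjective (hMap (k := k) φ 0) := by
  intro z
  have hz : z ∈ LinearMap.ker (hδ (k := k) (kerSeq_shortExact φ h) 0) :=
    LinearMap.mem_ker.2 (Subsingleton.elim (α := Coh.HH X (kernel φ) 1) _ _)
  rw [← range_hMap_g] at hz
  exact hz

include k in
theorem exists_lift {M N : X.Modules} (φ : M ⟶ N) (h : ∀ x, Function.Surjective (stalkLin φ x))
    [Subsingleton (Coh.HH X (kernel φ) 1)] (σ : Coh.structureModule X ⟶ N) :
    ∃ τ : Coh.structureModule X ⟶ M, τ ≫ φ = σ := by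
  obtain ⟨c, hc⟩ := surjective_H0 (k := k) φ h ((secOf N).symm (AmpleLib.sec σ))
  refine ⟨DCohLib.secHom M (secOf M c), DCohLib.hom_unit_ext ?_⟩
  show φ.app ⊤ (AmpleLib.sec (DCohLib.secHom M (secOf M c))) = AmpleLib.sec σ
  rw [AmpleLib.sec_secHom]
  refine ((secOf_hMap (k := k) φ c).symm.trans ?_)
  rw [hc, AddEquiv.apply_symm_apply]

variable [IsProper (X ↘ Spec (CommRingCat.of k))] (hdim : topologicalKrullDim X ≤ 1)

include k hdim in
theorem subsingleton_H1_of_surjective {A B : X.Modules} (f : A ⟶ B) [Subsingleton (Coh.HH X A 1)]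
    (h : ∀ x, Function.Surjective (stalkLin f x)) : Subsingleton (Coh.HH X B 1) :=
  (hMap_one_surjective (k := k) hdim f isClosed_empty
    (topologicalKrullDim_zero_of_discreteTopology (∅ : Set X)) (fun x _ => h x)).subsingleton

omit [IsProper (X ↘ Spec (CommRingCat.of k))] [X.Over (Spec (CommRingCat.of k))] in
theorem subsingleton_mid_mono {A B : X.Modules} (ι : A ⟶ B) [Mono ι] (h1 : Subsingleton (Coh.HH X A 1))
    (h3 : Subsingleton (Coh.HH X (cokernel ι) 1)) : Subsingleton (Coh.HH X B 1) :=
  @subsingleton_mid X (DevLib.cokerSeq ι) (DevLib.cokerSeq_shortExact ι) 1 h1 h3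

include k hdim in
/-- A module covered by finitely many images of a module without `H¹` has no `H¹`. -/
theorem subsingleton_H1_of_jointly {N : X.Modules} [Subsingleton (Coh.HH X N 1)] :
    ∀ (n : ℕ) (B : X.Modules) (ψ : Fin n → (N ⟶ B)),
      (∀ x, (⨆ i, LinearMap.range (stalkLin (ψ i) x)) = ⊤) → Subsingleton (Coh.HH X B 1) := by
  intro n
  induction n with
  | zero =>
    intro B ψ h
    haveI : ∀ x, Subsingleton (B.presheaf.stalk x) := fun x => by
      have h1 := h x
      rw [iSup_of_empty] at h1
      exact (Submodule.subsingleton_iff (X.presheaf.stalk x)).1 (subsingleton_iff_bot_eq_top.1 h1)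
    have hs : ∀ x, Function.Surjective (stalkLin (0 : N ⟶ B) x) := fun x => Function.surjective_to_subsingleton _
    exact subsingleton_H1_of_surjective (k := k) hdim (0 : N ⟶ B) hs
  | succ n ih =>
    intro B ψ h
    let ι := Abelian.image.ι (ψ 0)
    let π := cokernel.π ι
    haveI hI : Subsingleton (Coh.HH X (Abelian.image (ψ 0)) 1) :=
      subsingleton_H1_of_surjective (k := k) hdim (Abelian.factorThruImage (ψ 0))
        ((epi_iff_stalk _).1 inferInstance)
    haveI : Subsingleton (Coh.HH X (cokernel ι) 1) := ih _ (fun i => ψ i.succ ≫ π) fun x => by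
      refine eq_top_iff.2 fun z _ => ?_
      obtain ⟨b, rfl⟩ := DevLib.coker_surjective ι x z
      have hb : b ∈ ⨆ i, LinearMap.range (stalkLin (ψ i) x) := (h x).symm ▸ Submodule.mem_top
      have hle : (⨆ i, LinearMap.range (stalkLin (ψ i) x)) ≤
          (⨆ i : Fin n, LinearMap.range (stalkLin (ψ i.succ ≫ π) x)).comap (stalkLin π x) := by
        refine iSup_le fun i => ?_
        rintro _ ⟨w, rfl⟩
        rw [Submodule.mem_comap]
        cases i using Fin.cases with
        | zero =>
          have h0 : stalkLin π x (stalkLin (ψ 0) x w) = 0 := by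
            rw [← LinearMap.comp_apply, ← stalkLin_comp]
            have : ψ 0 ≫ π = 0 :=
              (congrArg (· ≫ π) (Abelian.image.fac (ψ 0)).symm).trans
                (by rw [Category.assoc]; exact (congrArg (_ ≫ ·) (cokernel.condition ι)).trans comp_zero)
            rw [this, DevLib.stalkLin_zero, LinearMap.zero_apply]
          rw [h0]
          exact zero_mem _
        | succ j =>
          refine Submodule.mem_iSup_of_mem j ⟨w, ?_⟩
          rw [stalkLin_comp, LinearMap.comp_apply]
      exact hle hb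
    exact subsingleton_mid_mono ι hI inferInstance

variable [hO : Subsingleton (Coh.HH X (Coh.structureModule X) 1)]

include k hdim in
theorem subsingleton_H1_quotMod (J : X.IdealSheafData) : Subsingleton (Coh.HH X (ClSub.quotMod J) 1) := by
  haveI : Epi (ClSub.toSubscheme J) := HilbObsLib.epi_toSubscheme J
  exact subsingleton_H1_of_surjective (k := k) hdim (ClSub.toSubscheme J) ((epi_iff_stalk _).1 inferInstance)

/-- Every nonzero function on `J` generates everywhere. -/
def FieldLike (J : X.IdealSheafData) : Prop :=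
  ∀ σ : Coh.structureModule X ⟶ ClSub.quotMod J, σ ≠ 0 → ∀ x, Function.Surjective (stalkLin σ x)

variable (k) in
/-- The dimension of the space of functions on `J`. -/
abbrev h0 (J : X.IdealSheafData) : ℕ := Module.finrank k (Coh.HH X (ClSub.quotMod J) 0)

include hdim in
/-- The key vanishing. -/
theorem subsingleton_H1_kernel {J B A A' : X.IdealSheafData} (hJB : J ≤ B) (hAA : A ≤ A')
    (hN : Killed A (kernel (qmap hJB))) (hsupp : CohB1.support (kernel (qmap hJB)) ⊆ A'.support)
    (hA' : FieldLike A') (hlift : Function.Surjective (hMap (k := k) (qmap hAA) 0))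
    (hB : (B.support : Set X).Nonempty) (hle : h0 k B ≤ h0 k A') :
    Subsingleton (Coh.HH X (kernel (qmap hJB)) 1) := by
  haveI := EulerIneqLib.isNoetherian_proper (X := X) k
  haveI := EulerIneqLib.finite_HH (k := k) (IntLib.isCoh_quotMod B) 0
  haveI := EulerIneqLib.finite_HH (k := k) (IntLib.isCoh_quotMod A) 0
  haveI := subsingleton_H1_quotMod (k := k) hdim J
  let N := kernel (qmap hJB)
  let S := kerSeq (qmap hJB)
  have hS : S.ShortExact := kerSeq_shortExact _ (surjective_qmap hJB)
  by_contra hne
  haveI hnt : Nontrivial (Coh.HH X N 1) := not_subsingleton_iff_nontrivial.1 hne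
  let δ : Coh.HH X (ClSub.quotMod B) 0 →ₗ[k] Coh.HH X N 1 := hδ (k := k) hS 0
  have hδs : Function.Surjective δ := by
    rw [← LinearMap.range_eq_top, range_hδ (k := k) hS]
    exact eq_top_iff.2 fun z _ => LinearMap.mem_ker.2 (Subsingleton.elim (α := Coh.HH X (ClSub.quotMod J) 1) _ _)
  haveI : Module.Finite k (Coh.HH X N 1) := Module.Finite.of_surjective δ hδs
  -- `1` is in the kernel of `δ`
  have hone : ∃ c, c ≠ 0 ∧ δ c = 0 := by
    obtain ⟨x, hx⟩ := hB
    refine ⟨hMap (k := k) (qmap hJB) 0 ((secOf _).symm (AmpleLib.sec (ClSub.toSubscheme J))), fun h => ?_, ?_⟩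
    · have h1 := congrArg (secOf (ClSub.quotMod B)) h
      rw [secOf_hMap, AddEquiv.apply_symm_apply, map_zero] at h1
      have h2 : stalkLin (ClSub.toSubscheme B) x (ParaFLib.oneG x) = 0 := by
        rw [← toSubscheme_qmap hJB]
        refine (stalkLin_germ (ClSub.toSubscheme J ≫ qmap hJB) (U := ⊤) x trivial _).trans ?_
        refine (congrArg _ h1).trans ?_
        exact map_zero _
      have h3 := stalkIdeal_le_maximal hx ((qv_eq_zero_iff B x 1).1 (by rw [qv, one_smul]; exact h2))
      exact h3 isUnit_one
    · exact LinearMap.mem_ker.1 ((range_hMap_g (k := k) hS 0).le ⟨_, rfl⟩)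
  have hlt : Module.finrank k (Coh.HH X N 1) < h0 k B := by
    obtain ⟨c, hc, hc0⟩ := hone
    have h1 := LinearMap.finrank_range_add_finrank_ker δ
    rw [LinearMap.range_eq_top.2 hδs, finrank_top] at h1
    haveI : Nontrivial (LinearMap.ker δ) := nontrivial_of_ne ⟨c, hc0⟩ 0 fun h => hc (congrArg Subtype.val h)
    have h2 : 0 < Module.finrank k (LinearMap.ker δ) := Module.finrank_pos
    show _ < Module.finrank k (Coh.HH X (ClSub.quotMod B) 0)
    omega
  -- functions on `A` act on the classes
  haveI := isIso_mulS_toSubscheme hN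
  let e1 : Coh.HH X N 1 ≃ₗ[k] Coh.HH X (tmod N (Coh.structureModule X)) 1 :=
    LinearEquiv.ofBijective _ (hMap_bijective_iso (k := k) (tensorStructureIso N).symm 1)
  let e2 : Coh.HH X (tmod N (ClSub.quotMod A)) 1 ≃ₗ[k] Coh.HH X N 1 :=
    LinearEquiv.ofBijective _ (hMap_bijective_iso (k := k) ((asIso (mulS N (ClSub.toSubscheme A))).symm ≪≫ tensorStructureIso N) 1)
  obtain ⟨w, hw⟩ := exists_ne (0 : Coh.HH X N 1)
  let f : Coh.HH X (ClSub.quotMod A) 0 →ₗ[k] Coh.HH X N 1 :=
    e2.toLinearMap ∘ₗ ((mulH (k := k) N (ClSub.quotMod A) 1).flip (e1 w))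
  have hker : LinearMap.ker f ≤ LinearMap.ker (hMap (k := k) (qmap hAA) 0) := by
    intro c hc
    rw [LinearMap.mem_ker] at hc ⊢
    by_contra hne'
    let σ := DCohLib.secHom (ClSub.quotMod A) (secOf _ c)
    have hσ : σ ≫ qmap hAA ≠ 0 := fun h0 => hne' ((secOf (ClSub.quotMod A')).injective (by
      rw [secOf_hMap, map_zero]
      have h1 : (qmap hAA).app ⊤ (AmpleLib.sec σ) = 0 := congrArg AmpleLib.sec h0
      rwa [AmpleLib.sec_secHom] at h1))
    haveI := isIso_mulS_section hN σ fun x hx => surjective_of_qmap hAA (hsupp hx) σ (hA' _ hσ x)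
    have hinj : Function.Injective (hMap (k := k) (mulS N σ) 1) :=
      (hMap_bijective_iso (k := k) (asIso (mulS N σ)) 1).1
    have h2 : e2 (hMap (k := k) (mulS N σ) 1 (e1 w)) = 0 := hc
    exact hw (e1.injective (hinj ((e2.injective (h2.trans (map_zero e2).symm)).trans (map_zero _).symm) |>.trans (map_zero e1).symm))
  have hge : h0 k A' ≤ Module.finrank k (Coh.HH X N 1) := by
    have h1 := LinearMap.finrank_range_add_finrank_ker f
    have h2 := LinearMap.finrank_range_add_finrank_ker (hMap (k := k) (qmap hAA) 0)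
    rw [LinearMap.range_eq_top.2 hlift, finrank_top] at h2
    have h3 := Submodule.finrank_mono hker
    have h4 := (LinearMap.range f).finrank_le
    show Module.finrank k (Coh.HH X (ClSub.quotMod A') 0) ≤ _
    omega
  omega

end Groth.Agent.H1ZeroLib
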