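import Groth.Agent.H1ZeroLib.Twist
import Groth.Agent.SingRRLib.Sections
import Groth.Agent.IntLib.Push

/-!
# Nef invertible modules on integral curves with `H¹(O) = 0`
-/

set_option autoImplicit false
set_option backward.isDefEq.respectTransparency false
set_option backward.isDefEq.respectTransparency.types false
set_option linter.style.haveILetI false

universe u

open CategoryTheory CategoryTheory.Limits AlgebraicGeometry TopologicalSpace Opposite
open Groth.Agent.PullbackMod Groth.Agent.DCohLib Groth.Agent.CurveLib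
open scoped TensorProduct

noncomputable section

namespace Groth.Agent.H1ZeroLib

variable {k : Type u} [Field k]

section Curve

variable {Y : Scheme.{u}} [Y.Over (Spec (CommRingCat.of k))] [IsProper (Y ↘ Spec (CommRingCat.of k))]
  [IsIntegral Y] (hdim : topologicalKrullDim Y ≤ 1) (hg : Curv2.genus k Y = 0)
  {M : Y.Modules} (hM : PicF.IsInvertible M) (hdeg : 0 ≤ Curv2.deg k Y M 1)

include hdim hg hM hdeg in
theorem h0_ideal_lt (Z : Y.IdealSheafData) (hZ : topologicalKrullDim (Z.support : Set Y) ≤ 0)
    (hne : 0 < Module.finrank k (Coh.HH Y (ClSub.quotMod Z) 0)) :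
    Module.finrank k (Coh.HH Y (tmod (ClSub.idealMod Z) M) 0) < Module.finrank k (Coh.HH Y M 0) := by
  haveI := EulerIneqLib.isNoetherian_proper (X := Y) k
  haveI := SingRRLib.mono_twistι Z hM
  have hO := euler_eq_sub (k := k) (M := Coh.structureModule Y) hdim
  have hd : Curv2.deg k Y M 1 = Curv2.euler k Y M - Curv2.euler k Y (Coh.structureModule Y) := by
    unfold Curv2.deg; simp
  have hpos : 0 < Module.finrank k (Coh.HH Y (Coh.structureModule Y) 0) := by
    haveI := EulerIneqLib.finite_HH (k := k) (DevLib.isCoh_structureModule Y) 0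
    haveI : Nontrivial (Coh.HH Y (Coh.structureModule Y) 0) := by
      haveI : Nontrivial Γ(Coh.structureModule Y, ⊤) := inferInstanceAs (Nontrivial Γ(Y, ⊤))
      exact (secOf (Coh.structureModule Y)).toEquiv.nontrivial
    exact Module.finrank_pos
  have hg' : Module.finrank k (Coh.HH Y (Coh.structureModule Y) 1) = 0 := hg
  rw [hg'] at hO
  have hMeq := euler_eq_sub (k := k) (M := M) hdim
  rcases subsingleton_or_nontrivial (Coh.HH Y (tmod (ClSub.idealMod Z) M) 1) with h | h
  · have h1 := SingRRLib.euler_ideal_tensor k Z hZ hM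
    rw [euler_eq_sub (k := k) hdim,
      Module.finrank_zero_of_subsingleton (R := k) (M := Coh.HH Y (tmod (ClSub.idealMod Z) M) 1)] at h1
    omega
  · have h1 := SingRRLib.h0_le_genus k hdim _ (SingRRLib.gen_surj_of_mono k hdim hM (SingRRLib.twistι Z M))
    omega

include hdim hg hM hdeg in
theorem exists_genLocus_closed {x : Y} (hx : IsClosed ({x} : Set Y)) :
    ∃ s : Coh.structureModule Y ⟶ M, x ∈ CohB1.genLocus M s := by
  haveI := EulerIneqLib.isNoetherian_proper (X := Y) k
  let J := Scheme.IdealSheafData.vanishingIdeal (⟨{x}, hx⟩ : Closeds Y)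
  have hsupp : (J.support : Set Y) = {x} := by rw [Scheme.IdealSheafData.coe_support_vanishingIdeal]; rfl
  have hd : topologicalKrullDim (J.support : Set Y) ≤ 0 := by
    rw [hsupp]
    exact topologicalKrullDim_zero_of_discreteTopology ({x} : Set Y)
  have hlt := h0_ideal_lt hdim hg hM hdeg J hd (SingRRLib.finrank_quot_point_pos hx)
  by_contra hno
  push Not at hno
  haveI := SingRRLib.mono_twistι J hM
  have hS := DevLib.cokerSeq_shortExact (SingRRLib.twistι J M)
  have hsur : Function.Surjective (hMap (k := k) (SingRRLib.twistι J M) 0) := by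
    intro c
    have hzero : (cokernel.π (SingRRLib.twistι J M)).app ⊤ (secOf M c) = 0 := by
      refine TopCat.Presheaf.section_ext
        (⟨(cokernel (SingRRLib.twistι J M)).presheaf, (cokernel (SingRRLib.twistι J M)).isSheaf⟩ : TopCat.Sheaf Ab Y)
        ⊤ _ _ fun y hy => ?_
      show (cokernel (SingRRLib.twistι J M)).presheaf.germ ⊤ y trivial _ =
        (cokernel (SingRRLib.twistι J M)).presheaf.germ ⊤ y trivial 0
      rw [map_zero, ← stalkLin_germ]
      refine (DevLib.coker_exact (SingRRLib.twistι J M) y _).2 ?_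
      obtain ⟨g, hg, hg'⟩ := SingRRLib.exists_gen_twist (k := k) J hM y
      obtain ⟨r, hr⟩ := hg.2 (M.presheaf.germ ⊤ y trivial (secOf M c))
      rw [← hr]
      refine hg' r ?_
      obtain ⟨h1, h2⟩ := CurveFF.stalkIdeal_point hx
      by_cases hy : y = x
      · subst hy
        rw [h1]
        intro hu
        refine hno (DCohLib.secHom M (secOf M c)) ?_
        rw [AmpleLib.mem_genLocus_iff hM, AmpleLib.sec_secHom, ← hr]
        exact (AmpleLib.bijective_smul_iff hg r).2 hu
      · rw [h2 y hy]
        trivial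
    have hc : hMap (k := k) (DevLib.cokerSeq (SingRRLib.twistι J M)).g 0 c = 0 := by
      refine (secOf (cokernel (SingRRLib.twistι J M))).injective ?_
      rw [map_zero]
      exact (secOf_hMap (k := k) _ _).trans hzero
    exact (range_hMap_f (k := k) hS 0).ge (LinearMap.mem_ker.2 hc)
  haveI := EulerIneqLib.finite_HH (k := k) (isCoh_tmod (RefOne.isCoh_idealMod J) (isCoh_of_isInvertible hM)) 0
  have h1 := LinearMap.finrank_range_le (hMap (k := k) (SingRRLib.twistι J M) 0)
  rw [LinearMap.range_eq_top.2 hsur, finrank_top] at h1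
  omega

include hdim hg hM hdeg in
theorem exists_genLocus (y : Y) : ∃ s : Coh.structureModule Y ⟶ M, y ∈ CohB1.genLocus M s := by
  haveI := EulerIneqLib.isNoetherian_proper (X := Y) k
  obtain ⟨x, hxy, hxc⟩ := IsClosed.exists_closed_singleton (isClosed_closure (s := ({y} : Set Y))) ⟨y, subset_closure rfl⟩
  obtain ⟨s, hs⟩ := exists_genLocus_closed hdim hg hM hdeg hxc
  exact ⟨s, (specializes_iff_mem_closure.2 hxy).mem_open (CohB1.genLocus M s).2 hs⟩

end Curve

variable {X : Scheme.{u}} [X.Over (Spec (CommRingCat.of k))] [IsProper (X ↘ Spec (CommRingCat.of k))]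
  (hdim : topologicalKrullDim X ≤ 1) [hO : Subsingleton (Coh.HH X (Coh.structureModule X) 1)]

include k hdim in
/-- The base case: an integral closed subscheme. -/
theorem gg_integral {L : X.Modules} (hL : PicF.IsInvertible L) (J : X.IdealSheafData) [IsIntegral J.subscheme]
    (hdeg : 0 ≤ @Curv2.deg k _ J.subscheme ⟨J.subschemeι ≫ (X ↘ (Spec (CommRingCat.of k)))⟩
      ((Scheme.Modules.pullback J.subschemeι).obj L) 1) : GG J L := by
  haveI := EulerIneqLib.isNoetherian_proper (X := X) k
  let Y := J.subscheme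
  letI : Y.Over (Spec (CommRingCat.of k)) := ⟨J.subschemeι ≫ (X ↘ Spec (CommRingCat.of k))⟩
  haveI : IsProper (Y ↘ Spec (CommRingCat.of k)) :=
    inferInstanceAs (IsProper (J.subschemeι ≫ (X ↘ Spec (CommRingCat.of k))))
  have hdY : topologicalKrullDim Y ≤ 1 :=
    J.subschemeι.isEmbedding.isInducing.topologicalKrullDim_le.trans hdim
  haveI : Coh.IsQCoh (Coh.structureModule Y) := InvExt.isQCoh_of_isInvertible ParaFLib.isInvertible_structureModule
  have hgen : Curv2.genus k Y = 0 := by
    haveI := subsingleton_H1_quotMod (k := k) hdim J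
    exact ((IntLib.finrank_push k J.subschemeι rfl (Coh.structureModule Y) 1).symm).trans
      (Module.finrank_zero_of_subsingleton (R := k) (M := Coh.HH X (ClSub.quotMod J) 1))
  let M := (Scheme.Modules.pullback J.subschemeι).obj L
  have hM : PicF.IsInvertible M := AmpleLib.isInvertible_pullback _ hL
  let θ : LJ J L ≅ (Scheme.Modules.pushforward J.subschemeι).obj M :=
    projIso J.subschemeι (Coh.structureModule Y) L ≪≫ (Scheme.Modules.pushforward J.subschemeι).mapIso (tmodUnit M)
  intro x
  by_cases hx : x ∈ J.support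
  swap
  · exact ⟨0, surjective_of_notMem_supportL hL hx _⟩
  obtain ⟨w, rfl⟩ : ∃ w, J.subschemeι w = x := by
    rw [← Set.mem_range, Scheme.IdealSheafData.range_subschemeι]; exact hx
  obtain ⟨s, hs⟩ := exists_genLocus hdY hgen hM hdeg w
  rw [AmpleLib.mem_genLocus_iff hM] at hs
  let τ : Γ(M, ⊤) := AmpleLib.sec s
  let σ' : Coh.structureModule X ⟶ (Scheme.Modules.pushforward J.subschemeι).obj M :=
    DCohLib.secHom ((Scheme.Modules.pushforward J.subschemeι).obj M) τ
  refine ⟨σ' ≫ θ.inv, ?_⟩
  rw [stalkLin_comp]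
  refine ((isIso_iff_stalk θ.inv).1 inferInstance _).2.comp fun z => ?_
  obtain ⟨r, hr⟩ := hs.2 (pushStalk J.subschemeι M w z)
  obtain ⟨c, rfl⟩ := J.subschemeι.stalkMap_surjective w r
  refine ⟨c • ParaFLib.oneG _, (bijective_pushStalk J.subschemeι M w).1 ?_⟩
  rw [map_smul, pushStalk_smul, CurveLib.stalkLin_secHom]
  exact (congrArg (_ • ·) (pushStalk_germ J.subschemeι M w (W := ⊤) trivial _)).trans hr

end Groth.Agent.H1ZeroLib
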