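import Groth.Agent.CurveLib.Inv
import Mathlib

/-!
# Splitting a connected reducible closed set into two connected pieces
-/

set_option autoImplicit false
set_option linter.style.haveILetI false

universe u

open AlgebraicGeometry TopologicalSpace

namespace Groth.Agent.H1ZeroLib

variable {X : Scheme.{u}}

/-- A connected reducible closed subset of a curve is a union of two proper connected closed subsets
with finite intersection. -/
theorem exists_connected_split [NoetherianSpace X] (hdim : topologicalKrullDim X ≤ 1) (S : Closeds X)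
    (hconn : _root_.IsConnected (S : Set X)) (hirr : ¬ IsIrreducible (S : Set X)) :
    ∃ A B : Closeds X, _root_.IsConnected (A : Set X) ∧ _root_.IsConnected (B : Set X) ∧ A ⊔ B = S ∧ A ≠ S ∧
      B ≠ S ∧ topologicalKrullDim ((A : Set X) ∩ B : Set X) ≤ 0 := by
  classical
  have hex : ∃ n, ∃ T : Finset (Closeds X), T.card = n ∧ (∀ Z ∈ T, IsIrreducible (Z : Set X)) ∧
      T.sup id = S := by
    obtain ⟨T, hT, hirrT, hS⟩ := NoetherianSpace.exists_finite_set_closeds_irreducible S
    refine ⟨_, hT.toFinset, rfl, fun Z hZ => hirrT Z (hT.mem_toFinset.1 hZ), ?_⟩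
    rw [hS, Finset.sup_id_eq_sSup, hT.coe_toFinset]
  obtain ⟨T, hTn, hTirr, hTS⟩ := Nat.find_spec hex
  have hmin : ∀ c ∈ T, (T.erase c).sup id ≠ S := fun c hc h =>
    Nat.find_min hex (hTn ▸ Finset.card_erase_lt_of_mem hc)
      ⟨T.erase c, rfl, fun Z hZ => hTirr Z (Finset.mem_of_mem_erase hZ), h⟩
  have mem_sup : ∀ (s : Finset (Closeds X)) (x : X), x ∈ s.sup id ↔ ∃ Z ∈ s, x ∈ Z := fun s x => by
    induction s using Finset.induction with
    | empty => simp [← SetLike.mem_coe]
    | insert a s _ ih =>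
      rw [Finset.sup_insert, ← SetLike.mem_coe, Closeds.coe_sup, Set.mem_union, SetLike.mem_coe,
        SetLike.mem_coe, ih]
      simp
  let F := T.powerset.filter fun s => s ≠ T ∧ _root_.IsConnected ((s.sup id : Closeds X) : Set X)
  obtain ⟨c₀, hc₀⟩ : T.Nonempty := by
    rw [Finset.nonempty_iff_ne_empty]
    rintro rfl
    obtain ⟨x, hx⟩ := hconn.1
    rw [← hTS] at hx
    simp at hx
  have hsing : ({c₀} : Finset (Closeds X)) ∈ F := by
    refine Finset.mem_filter.2 ⟨Finset.mem_powerset.2 (Finset.singleton_subset_iff.2 hc₀), fun h => hirr ?_, ?_⟩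
    · rw [← hTS, ← h, Finset.sup_singleton]
      exact hTirr c₀ hc₀
    · rw [Finset.sup_singleton]
      exact (hTirr c₀ hc₀).isConnected
  obtain ⟨s, hs, hmax⟩ := Finset.exists_max_image F Finset.card ⟨_, hsing⟩
  obtain ⟨hsT, hsne, hsc⟩ := Finset.mem_filter.1 hs
  replace hsT := Finset.mem_powerset.1 hsT
  obtain ⟨c, hcT, hcs, y, hyc, hyU⟩ : ∃ c ∈ T, c ∉ s ∧ ∃ y, y ∈ c ∧ y ∈ s.sup id := by
    by_contra hcon
    push Not at hcon
    obtain ⟨d, hdT, hds⟩ := Finset.exists_of_ssubset (Finset.ssubset_iff_subset_ne.2 ⟨hsT, hsne⟩)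
    have hcov : (S : Set X) ⊆ ((s.sup id : Closeds X) : Set X) ∪ (((T \ s).sup id : Closeds X) : Set X) := by
      rw [← Closeds.coe_sup, ← Finset.sup_union, Finset.union_sdiff_of_subset hsT, hTS]
    obtain ⟨x, hxU⟩ := hsc.1
    obtain ⟨w, hw⟩ := (hTirr d hdT).1
    have hxS : x ∈ (S : Set X) := by rw [← hTS]; exact (Finset.sup_mono hsT : s.sup id ≤ T.sup id) hxU
    have hwS : w ∈ (S : Set X) := by rw [← hTS]; exact (mem_sup T w).2 ⟨d, hdT, hw⟩
    obtain ⟨z, -, hz1, hz2⟩ := isPreconnected_closed_iff.1 hconn.2 _ _ (Closeds.isClosed _) (Closeds.isClosed _) hcov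
      ⟨x, hxS, hxU⟩ ⟨w, hwS, (mem_sup _ w).2 ⟨d, Finset.mem_sdiff.2 ⟨hdT, hds⟩, hw⟩⟩
    obtain ⟨Z, hZ, hzZ⟩ := (mem_sup _ z).1 hz2
    exact hcon Z (Finset.mem_sdiff.1 hZ).1 (Finset.mem_sdiff.1 hZ).2 z hzZ hz1
  have hins : insert c s = T := by
    by_contra h
    have hmem : insert c s ∈ F := by
      refine Finset.mem_filter.2 ⟨Finset.mem_powerset.2 (Finset.insert_subset hcT hsT), h, ?_⟩
      rw [Finset.sup_insert, Closeds.coe_sup]
      exact (hTirr c hcT).isConnected.union ⟨y, hyc, hyU⟩ hsc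
    have := hmax _ hmem
    rw [Finset.card_insert_of_notMem hcs] at this
    omega
  have hse : T.erase c = s := by rw [← hins, Finset.erase_insert hcs]
  have hU : s.sup id ≠ S := hse ▸ hmin c hcT
  have hun : c ⊔ s.sup id = S := by
    rw [← hTS, ← hins, Finset.sup_insert]
    rfl
  refine ⟨s.sup id, c, hsc, (hTirr c hcT).isConnected, by rw [sup_comm]; exact hun, hU,
    fun h => hirr (h ▸ hTirr c hcT), ?_⟩
  obtain ⟨ξ, hξ⟩ := QuasiSober.sober (hTirr c hcT) c.isClosed
  have hξU : ξ ∉ s.sup id := fun h => hU (by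
    rw [← hun]
    refine (sup_eq_right.2 ?_).symm
    intro z hz
    rw [← SetLike.mem_coe, ← hξ] at hz
    exact closure_minimal (Set.singleton_subset_iff.2 h) (Closeds.isClosed _) hz)
  haveI : IrreducibleSpace (c : Set X) := Subtype.irreducibleSpace (hTirr c hcT)
  let W : Set (c : Set X) := (fun z : (c : Set X) => (z : X)) ⁻¹' ((s.sup id : Closeds X) : Set X)
  have hd : topologicalKrullDim W ≤ 0 := by
    refine Order.krullDim_nonpos_iff_forall_isMax.2 fun Z Z' hle => ?_
    by_contra hne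
    let ι : IrreducibleCloseds W →
        IrreducibleCloseds X :=
      IrreducibleCloseds.map (fun z => z.1.1) (continuous_subtype_val.comp continuous_subtype_val)
    have hι : StrictMono ι := IrreducibleCloseds.map_strictMono_of_isInducing
      (Topology.IsInducing.subtypeVal.comp Topology.IsInducing.subtypeVal)
    let Tc : IrreducibleCloseds X := ⟨c, hTirr c hcT, c.isClosed⟩
    have hlt : ι Z < ι Z' := hι (lt_of_le_not_ge hle hne)
    have hsub : ((ι Z' : IrreducibleCloseds X) : Set X) ⊆ (s.sup id : Closeds X) :=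
      closure_minimal (by rintro _ ⟨x, -, rfl⟩; exact x.2) (Closeds.isClosed _)
    have hsub' : ((ι Z' : IrreducibleCloseds X) : Set X) ⊆ c :=
      closure_minimal (by rintro _ ⟨x, -, rfl⟩; exact x.1.2) c.isClosed
    have hlt' : ι Z' < Tc := SetLike.coe_ssubset_coe.1 ⟨hsub', fun hh => hξU (hsub (hh hξ.mem))⟩
    let p : LTSeries (IrreducibleCloseds X) :=
      LTSeries.mk 2 ![ι Z, ι Z', Tc] (Fin.strictMono_iff_lt_succ.2 fun i => by fin_cases i <;> simpa)
    exact absurd ((Order.LTSeries.length_le_krullDim p).trans hdim)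
      (by show ¬((2 : ℕ) : WithBot ℕ∞) ≤ 1; decide)
  let f : ((s.sup id : Closeds X) ∩ (c : Set X) : Set X) →
      W :=
    fun z => ⟨⟨z.1, z.2.2⟩, z.2.1⟩
  refine le_trans (Topology.IsInducing.topologicalKrullDim_le (f := f) ?_) hd
  exact Topology.IsInducing.of_comp ((continuous_subtype_val.subtype_mk _).subtype_mk _)
    (continuous_subtype_val.comp continuous_subtype_val) Topology.IsInducing.subtypeVal

end Groth.Agent.H1ZeroLib
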