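import Groth.Agent.H1ZeroLib.Steps
import Groth.Agent.H1ZeroLib.Integral
import Groth.Agent.H1ZeroLib.Split
import Groth.Agent.S4362
import Groth.Agent.AmpleEmb.SectionsGe

/-!
# Nef invertible modules are globally generated on curves with `H¹(O) = 0`
-/

set_option autoImplicit false
set_option backward.isDefEq.respectTransparency false
set_option backward.isDefEq.respectTransparency.types false
set_option linter.style.haveILetI false

universe u

open CategoryTheory CategoryTheory.Limits AlgebraicGeometry TopologicalSpace Opposite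
open Groth.Agent.PullbackMod Groth.Agent.DCohLib Groth.Agent.CurveLib
open scoped TensorProduct

noncomputable section

namespace Groth.Agent.H1ZeroLib

variable {X : Scheme.{u}}

theorem support_vanishingIdeal' (C : Closeds X) : (Scheme.IdealSheafData.vanishingIdeal C).support = C :=
  SetLike.coe_injective (Scheme.IdealSheafData.coe_support_vanishingIdeal C)

theorem stalkIdeal_inf (I J : X.IdealSheafData) (x : X) :
    IntMult.stalkIdeal (I ⊓ J) x = IntMult.stalkIdeal I x ⊓ IntMult.stalkIdeal J x := by
  obtain ⟨_, ⟨U : X.Opens, hU, rfl⟩, hxU, -⟩ :=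
    X.isBasis_affineOpens.exists_subset_of_mem_open (Set.mem_univ x) isOpen_univ
  rw [IdealStalkLib.stalkIdeal_eq _ ⟨U, hU⟩ x hxU, IdealStalkLib.stalkIdeal_eq I ⟨U, hU⟩ x hxU,
    IdealStalkLib.stalkIdeal_eq J ⟨U, hU⟩ x hxU, Scheme.IdealSheafData.ideal_inf]
  letI := TopCat.Presheaf.algebra_section_stalk X.presheaf (⟨x, hxU⟩ : U)
  haveI := hU.isLocalization_stalk ⟨x, hxU⟩
  exact IsLocalization.map_inf (hU.primeIdealOf ⟨x, hxU⟩).asIdeal.primeCompl _ _ _

/-- Some power of the radical lies in an ideal sheaf of a noetherian scheme. -/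
theorem exists_radical_pow_le [IsNoetherian X] (J : X.IdealSheafData) : ∃ n : ℕ, J.radical ^ n ≤ J := by
  classical
  obtain ⟨t, ht⟩ := CompactSpace.isCompact_univ.elim_finite_subcover (fun U : X.affineOpens => (U.1 : Set X))
    (fun U => U.1.2) (by
      intro x _
      obtain ⟨_, ⟨V, hV, rfl⟩, hxV, -⟩ := X.isBasis_affineOpens.exists_subset_of_mem_open (Set.mem_univ x) isOpen_univ
      exact Set.mem_iUnion.mpr ⟨⟨V, hV⟩, hxV⟩)
  have hn : ∀ U : X.affineOpens, ∃ n : ℕ, (J.radical.ideal U) ^ n ≤ J.ideal U := fun U => by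
    haveI : IsNoetherianRing Γ(X, U.1) := IsLocallyNoetherian.component_noetherian U
    exact Ideal.exists_pow_le_of_le_radical_of_fg le_rfl (IsNoetherian.noetherian _)
  choose n hn using hn
  refine ⟨t.sup n, DivisorialLib.le_of_stalk fun x => ?_⟩
  obtain ⟨U, hUt, hxU⟩ : ∃ U ∈ t, x ∈ (U.1 : Set X) := by simpa using ht (Set.mem_univ x)
  rw [IdealStalkLib.stalkIdeal_eq _ U x hxU, IdealStalkLib.stalkIdeal_eq J U x hxU]
  exact Ideal.map_mono ((Ideal.pow_le_pow_right (Finset.le_sup hUt)).trans (hn U))

theorem le_radical' (J : X.IdealSheafData) : J ≤ J.radical := Scheme.IdealSheafData.le_radical J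

theorem pow_le_pow' (I : X.IdealSheafData) {m n : ℕ} (h : m ≤ n) : I ^ n ≤ I ^ m := fun U => by
  rw [Scheme.IdealSheafData.ideal_pow, Scheme.IdealSheafData.ideal_pow, Pi.pow_apply, Pi.pow_apply]
  exact Ideal.pow_le_pow_right h

variable {k : Type u} [Field k] [X.Over (Spec (CommRingCat.of k))] [IsProper (X ↘ Spec (CommRingCat.of k))]
  (hdim : topologicalKrullDim X ≤ 1) [hO : Subsingleton (Coh.HH X (Coh.structureModule X) 1)]

/-- Nef: nonnegative degree on every integral curve in `X`. -/
abbrev IsNef (k : Type u) [Field k] [X.Over (Spec (CommRingCat.of k))] (L : X.Modules) : Prop :=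
  ∀ J : X.IdealSheafData, IsIntegral J.subscheme → topologicalKrullDim J.subscheme = 1 →
    0 ≤ @Curv2.deg k _ J.subscheme ⟨J.subschemeι ≫ (X ↘ (Spec (CommRingCat.of k)))⟩
      ((Scheme.Modules.pullback J.subschemeι).obj L) 1

include hdim in
/-- The statement proved by induction on `J`. -/
theorem gg_all {L : X.Modules} (hL : PicF.IsInvertible L) (hnef : IsNef k L) (J : X.IdealSheafData) :
    GG J L ∧ (_root_.IsConnected (J.support : Set X) →
      Subsingleton (Coh.HH X (kernel (qmap (le_radical' J))) 1)) := by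
  classical
  haveI := EulerIneqLib.isNoetherian_proper (X := X) k
  haveI := Groth.Agent.S4362.result X
  induction J using (WellFoundedGT.induction (α := X.IdealSheafData)) with
  | _ J ih =>
  by_cases hne : (J.support : Set X).Nonempty
  swap
  · exact ⟨fun x => ⟨0, surjective_of_notMem_supportL hL (fun hx => hne ⟨x, hx⟩) _⟩,
      fun h => absurd h.1 hne⟩
  obtain ⟨n, hn⟩ := exists_radical_pow_le J
  by_cases hconn : _root_.IsConnected (J.support : Set X)
  swap
  -- disconnected
  · refine ⟨?_, fun h => absurd h hconn⟩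
    have hpre : ¬ _root_.IsPreconnected (J.support : Set X) := fun h => hconn ⟨hne, h⟩
    rw [isPreconnected_closed_iff] at hpre
    push Not at hpre
    obtain ⟨t, t', ht, ht', hcov, h1, h2, hdis⟩ := hpre
    let C₁ : Closeds X := J.support ⊓ ⟨t, ht⟩
    let C₂ : Closeds X := J.support ⊓ ⟨t', ht'⟩
    have hsupp : C₁ ⊔ C₂ = J.support := by
      refine SetLike.coe_injective ?_
      show ((J.support : Set X) ∩ t) ∪ ((J.support : Set X) ∩ t') = J.support
      rw [← Set.inter_union_distrib_left, Set.inter_eq_left.2 hcov]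
    have hd : ∀ x, x ∈ C₁ → x ∈ C₂ → False := fun x h h' =>
      Set.eq_empty_iff_forall_notMem.1 hdis x ⟨h.1, h.2, h'.2⟩
    let I₁ := Scheme.IdealSheafData.vanishingIdeal C₁
    let I₂ := Scheme.IdealSheafData.vanishingIdeal C₂
    have hI : I₁ ⊓ I₂ = J.radical := by
      rw [← Scheme.IdealSheafData.vanishingIdeal_sup, hsupp, Scheme.IdealSheafData.vanishingIdeal_support]
    let A := J ⊔ I₁ ^ (n + 1)
    let B := J ⊔ I₂ ^ (n + 1)
    have hAs : A.support = C₁ := by
      rw [Scheme.IdealSheafData.support_sup, Scheme.IdealSheafData.support_pow_succ,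
        support_vanishingIdeal', inf_eq_right, ← hsupp]
      exact le_sup_left
    have hBs : B.support = C₂ := by
      rw [Scheme.IdealSheafData.support_sup, Scheme.IdealSheafData.support_pow_succ,
        support_vanishingIdeal', inf_eq_right, ← hsupp]
      exact le_sup_right
    have hAJ : J < A := lt_of_le_of_ne le_sup_left fun e => by
      obtain ⟨x, hx, hx'⟩ := h2
      refine hd x ?_ ⟨hx, hx'⟩
      rw [← hAs, ← e]
      exact hx
    have hBJ : J < B := lt_of_le_of_ne le_sup_left fun e => by
      obtain ⟨x, hx, hx'⟩ := h1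
      refine hd x ⟨hx, hx'⟩ ?_
      rw [← hBs, ← e]
      exact hx
    have hdisj : A ⊔ B = ⊤ := by
      rw [← Scheme.IdealSheafData.support_eq_bot_iff, Scheme.IdealSheafData.support_sup, hAs, hBs]
      exact eq_bot_iff.2 fun x hx => (hd x hx.1 hx.2).elim
    have key : ∀ x, IntMult.stalkIdeal I₁ x ^ (n + 1) * IntMult.stalkIdeal I₂ x ^ (n + 1) ≤ IntMult.stalkIdeal J x := by
      intro x
      rw [← mul_pow]
      have h : IntMult.stalkIdeal I₁ x * IntMult.stalkIdeal I₂ x ≤ IntMult.stalkIdeal J.radical x := by
        rw [← hI, stalkIdeal_inf]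
        exact Ideal.mul_le_inf
      refine (Ideal.pow_right_mono h (n + 1)).trans ?_
      rw [← InfNbhdLib.stalkIdeal_pow]
      exact stalkIdeal_mono ((pow_le_pow' _ (Nat.le_succ n)).trans hn) x
    have hinf : ∀ x, IntMult.stalkIdeal A x ⊓ IntMult.stalkIdeal B x ≤ IntMult.stalkIdeal J x := by
      intro x
      by_cases hx : x ∈ C₁
      · refine inf_le_left.trans ?_
        rw [stalkIdeal_sup, InfNbhdLib.stalkIdeal_pow]
        refine sup_le le_rfl ?_
        have h := key x
        rwa [IdealMulLib.stalkIdeal_eq_top I₂ (by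
          rw [support_vanishingIdeal']; exact fun h' => hd x hx h'), Ideal.top_pow,
          Ideal.mul_top] at h
      · refine inf_le_right.trans ?_
        rw [stalkIdeal_sup, InfNbhdLib.stalkIdeal_pow]
        refine sup_le le_rfl ?_
        have h := key x
        rwa [IdealMulLib.stalkIdeal_eq_top I₁ (by
          rw [support_vanishingIdeal']; exact hx), Ideal.top_pow, Ideal.top_mul] at h
    haveI := subsingleton_H1_kernel_of_disjoint (k := k) hdim hAJ.le hBJ.le hinf hdisj
    refine gg_union (k := k) hdim hL hAJ.le hBJ.le hinf ?_ (Or.inl hdisj) (ih A hAJ).1 (ih B hBJ).1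
    rw [hdisj, Scheme.IdealSheafData.support_top]
    exact topologicalKrullDim_zero_of_discreteTopology (∅ : Set X)
  have hFJ : FieldLike J.radical := by
    rw [← Scheme.IdealSheafData.vanishingIdeal_support]
    exact fieldLike_vanishingIdeal (k := k) J.support hconn
  by_cases hrad : J.radical = J
  swap
  -- connected, not reduced
  · have hex : ∃ m, J.radical ^ m ≤ J := ⟨n, hn⟩
    let m := Nat.find hex
    have hm : J.radical ^ m ≤ J := Nat.find_spec hex
    have hm2 : 2 ≤ m := by
      by_contra h
      have h1 : J.radical ^ 1 ≤ J := (pow_le_pow' _ (by omega)).trans hm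
      exact hrad (le_antisymm (fun U => by simpa using h1 U) (le_radical' J))
    let D := J ⊔ J.radical ^ (m - 1)
    have hDB : D ≤ J.radical := sup_le (le_radical' J)
      ((pow_le_pow' _ (show 1 ≤ m - 1 by omega)).trans fun U => by simp)
    have hJD : J < D := lt_of_le_of_ne le_sup_left fun e => by
      exact Nat.find_min hex (show m - 1 < m by omega) (le_sup_right.trans e.ge)
    have hDs : D.support = J.support := le_antisymm (Scheme.IdealSheafData.support_antitone le_sup_left)
      ((Scheme.IdealSheafData.support_radical J).ge.trans (Scheme.IdealSheafData.support_antitone hDB))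
    have hDrad : D.radical = J.radical := by
      rw [← Scheme.IdealSheafData.vanishingIdeal_support, hDs, Scheme.IdealSheafData.vanishingIdeal_support]
    obtain ⟨hGD, hD1⟩ := ih D hJD
    haveI := hD1 (hDs ▸ hconn)
    have hlift : Function.Surjective (hMap (k := k) (qmap hDB) 0) := by
      have h := surjective_H0 (k := k) (qmap (le_radical' D)) (surjective_qmap _)
      revert h
      generalize le_radical' D = h'
      revert h'
      rw [hDrad]
      exact fun _ h => h
    have hkill : Killed D (kernel (qmap (le_radical' J))) := killed_kernel (le_radical' J) fun x => by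
      rw [stalkIdeal_sup, Ideal.sup_mul, InfNbhdLib.stalkIdeal_pow, ← pow_succ, Nat.sub_add_cancel (by omega)]
      refine sup_le (Ideal.mul_le_left.trans le_rfl) ?_
      rw [← InfNbhdLib.stalkIdeal_pow]
      exact stalkIdeal_mono hm x
    have hsuppk : CohB1.support (kernel (qmap (le_radical' J))) ⊆ J.radical.support := fun x hx => by
      by_contra hxB
      refine hx ⟨fun a b => ?_⟩
      have key : ∀ v : (kernel (qmap (le_radical' J))).presheaf.stalk x, v = 0 := fun v => by
        have h := hkill x 1 (by
          rw [IdealMulLib.stalkIdeal_eq_top D (by rw [hDs]; exact hxB)]; trivial) v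
        rwa [one_smul] at h
      rw [key a, key b]
    haveI hK := subsingleton_H1_kernel (k := k) hdim (le_radical' J) hDB hkill hsuppk hFJ hlift hne le_rfl
    exact ⟨gg_of_thickening (k := k) hdim hL (le_radical' J) hkill hGD
      (ih J.radical (lt_of_le_of_ne (le_radical' J) (Ne.symm hrad))).1 subset_rfl, fun _ => hK⟩
  refine ⟨?_, fun _ => ?_⟩
  swap
  · haveI : IsIso (qmap (le_radical' J)) := (isIso_iff_stalk _).2 fun x =>
      ⟨(injective_iff_map_eq_zero _).2 fun z hz => by
        obtain ⟨r, rfl⟩ := qv_surjective J x z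
        rw [stalk_qmap, qv_eq_zero_iff] at hz
        rw [qv_eq_zero_iff]
        rwa [hrad] at hz, surjective_qmap _ x⟩
    refine subsingleton_H1_of_surjective (k := k) hdim
      (0 : Coh.structureModule X ⟶ kernel (qmap (le_radical' J))) fun x z => ⟨0, ?_⟩
    rw [map_zero]
    have h0 : 𝟙 (kernel (qmap (le_radical' J))) = 0 := (isZero_kernel_of_mono _).eq_of_src _ _
    have h1 := congrArg (fun f => stalkLin f x z) h0
    simp only [DevLib.stalkLin_zero, LinearMap.zero_apply] at h1
    exact (h1.symm.trans (by rw [stalkLin_id]; rfl))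
  have hJv : Scheme.IdealSheafData.vanishingIdeal J.support = J := by
    rw [Scheme.IdealSheafData.vanishingIdeal_support, hrad]
  by_cases hirr : IsIrreducible (J.support : Set X)
  -- integral
  · haveI : IsReduced J.subscheme := hJv ▸ DVRCrit.isReduced_vanishingIdeal J.support
    haveI : IrreducibleSpace J.subscheme := by
      haveI : IrreducibleSpace (J.support : Set X) := Subtype.irreducibleSpace hirr
      let h : J.subscheme ≃ₜ (J.support : Set X) :=
        J.subschemeι.isEmbedding.toHomeomorph.trans (Homeomorph.setCongr J.range_subschemeι)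
      refine (irreducibleSpace_def _).2 ?_
      rw [Set.top_eq_univ, ← h.symm.surjective.range_eq, ← Set.image_univ]
      exact (IrreducibleSpace.isIrreducible_univ _).image _ h.symm.continuous.continuousOn
    haveI : IsIntegral J.subscheme := isIntegral_of_irreducibleSpace_of_isReduced _
    by_cases hd : topologicalKrullDim J.subscheme = 1
    · exact gg_integral (k := k) hdim hL J (hnef J inferInstance hd)
    -- a finite set
    have hd0 : topologicalKrullDim (J.support : Set X) ≤ 0 := by
      rw [← Scheme.IdealSheafData.range_subschemeι,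
        ← IsHomeomorph.topologicalKrullDim_eq _ J.subschemeι.isEmbedding.toHomeomorph.isHomeomorph]
      have h1 : topologicalKrullDim J.subscheme ≤ 1 :=
        J.subschemeι.isEmbedding.isInducing.topologicalKrullDim_le.trans hdim
      revert h1 hd
      generalize topologicalKrullDim J.subscheme = a
      intro hne h1
      induction a using WithBot.recBotCoe with
      | bot => exact bot_le
      | coe a =>
        induction a using ENat.recTopCoe with
        | top => exact absurd h1 (by decide)
        | coe m =>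
          have h2 : m ≤ 1 := by exact_mod_cast h1
          have h3 : m ≠ 1 := fun h => hne (by subst h; rfl)
          obtain rfl : m = 0 := by omega
          exact le_rfl
    intro x
    by_cases hx : x ∈ J.support
    swap
    · exact ⟨0, surjective_of_notMem_supportL hL hx _⟩
    obtain ⟨e, he⟩ := ParaFLib.exists_stalk_gen hL x
    have hsupp : CohB1.support (LJ J L) ⊆ (J.support : Set X) := fun y hy => by
      by_contra hyJ
      obtain ⟨g, hg⟩ := ParaFLib.exists_stalk_gen hL y
      refine hy ⟨fun a b => ?_⟩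
      have key : ∀ v : (LJ J L).presheaf.stalk y, v = 0 := fun v => by
        obtain ⟨r, rfl⟩ := tq_surjective hg J v
        rw [tq_eq_zero_iff hg, IdealMulLib.stalkIdeal_eq_top J hyJ]
        trivial
      rw [key a, key b]
    obtain ⟨q, hq, -⟩ := exists_global_germ' J.support.isClosed hd0 (LJ J L) hsupp x (tq J x e 1)
    exact ⟨DCohLib.secHom _ q, (surjective_iff_isUnitL he hx _
      ((CurveLib.stalkLin_secHom q x).trans hq)).2 isUnit_one⟩
  -- connected, reduced, reducible
  obtain ⟨A, B, hA, hB, hAB, hAne, hBne, hfin⟩ := exists_connected_split hdim J.support hconn hirr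
  let IA := Scheme.IdealSheafData.vanishingIdeal A
  let IB := Scheme.IdealSheafData.vanishingIdeal B
  have hI : IA ⊓ IB = J := by rw [← Scheme.IdealSheafData.vanishingIdeal_sup, hAB, hJv]
  have hJA : J < IA := lt_of_le_of_ne (hI ▸ inf_le_left) fun e => hAne (by
    rw [e, support_vanishingIdeal'])
  have hJB : J < IB := lt_of_le_of_ne (hI ▸ inf_le_right) fun e => hBne (by
    rw [e, support_vanishingIdeal'])
  have hZ : topologicalKrullDim ((IA ⊔ IB).support : Set X) ≤ 0 := by
    rw [Scheme.IdealSheafData.support_sup, support_vanishingIdeal',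
      support_vanishingIdeal']
    exact hfin
  have hinf : ∀ x, IntMult.stalkIdeal IA x ⊓ IntMult.stalkIdeal IB x ≤ IntMult.stalkIdeal J x := fun x => by
    rw [← stalkIdeal_inf, hI]
  have hinf' : ∀ x, IntMult.stalkIdeal IB x ⊓ IntMult.stalkIdeal IA x ≤ IntMult.stalkIdeal J x := fun x => by
    rw [inf_comm]; exact hinf x
  have hFA := fieldLike_vanishingIdeal (k := k) A hA
  have hFB := fieldLike_vanishingIdeal (k := k) B hB
  have hid : ∀ I : X.IdealSheafData, Function.Surjective (hMap (k := k) (qmap (le_refl I)) 0) := fun I => by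
    haveI : IsIso (qmap (le_refl I)) := (isIso_iff_stalk _).2 fun x =>
      ⟨(injective_iff_map_eq_zero _).2 fun z hz => by
        obtain ⟨r, rfl⟩ := qv_surjective I x z
        rwa [stalk_qmap] at hz, surjective_qmap _ x⟩
    exact (hMap_bijective_iso (k := k) (asIso (qmap (le_refl I))) 0).2
  rcases le_total (h0 k IB) (h0 k IA) with hle | hle
  · haveI := subsingleton_H1_kernel (k := k) hdim hJB.le (le_refl IA) (killed_kernel_of_inf hJB.le hinf)
      (support_kernel_subset hJB.le hinf) hFA (hid IA)
      (by rw [support_vanishingIdeal']; exact hB.1) hle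
    exact gg_union (k := k) hdim hL hJA.le hJB.le hinf hZ (Or.inr hFA) (ih IA hJA).1 (ih IB hJB).1
  · haveI := subsingleton_H1_kernel (k := k) hdim hJA.le (le_refl IB) (killed_kernel_of_inf hJA.le hinf')
      (support_kernel_subset hJA.le hinf') hFB (hid IB)
      (by rw [support_vanishingIdeal']; exact hA.1) hle
    exact gg_union (k := k) hdim hL hJB.le hJA.le hinf' (by rw [sup_comm]; exact hZ) (Or.inr hFB) (ih IB hJB).1 (ih IA hJA).1

include hdim in
/-- Nef invertible modules are globally generated and have no `H¹`. -/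
theorem globallyGenerated_and_H1 {L : X.Modules} (hL : PicF.IsInvertible L) (hnef : IsNef k L) :
    Curv2.IsGloballyGenerated L ∧ Subsingleton (Coh.HH X L 1) := by
  let q := ClSub.toSubscheme (⊥ : X.IdealSheafData)
  have hG := (gg_all hdim hL hnef ⊥).1
  have hz : ∀ x, IntMult.stalkIdeal (⊥ : X.IdealSheafData) x = ⊥ := fun x => by
    obtain ⟨_, ⟨U : X.Opens, hU, rfl⟩, hxU, -⟩ :=
      X.isBasis_affineOpens.exists_subset_of_mem_open (Set.mem_univ x) isOpen_univ
    rw [IdealStalkLib.stalkIdeal_eq _ ⟨U, hU⟩ x hxU, Scheme.IdealSheafData.ideal_bot]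
    exact Ideal.map_bot
  haveI hq : IsIso q := (isIso_iff_stalk q).2 fun x => ⟨(injective_iff_map_eq_zero _).2 fun z hzq => by
    obtain ⟨r, rfl⟩ := (ParaFLib.bijective_oneG x).2 z
    have h := (qv_eq_zero_iff ⊥ x r).1 hzq
    rw [hz, Ideal.mem_bot] at h
    show r • ParaFLib.oneG x = 0
    rw [h, zero_smul], fun z => by
    obtain ⟨r, hr⟩ := qv_surjective ⊥ x z
    exact ⟨_, hr⟩⟩
  let ω : LJ ⊥ L ≅ L :=
    ((((DCoh.tensorBi (X := X)).mapIso (asIso q)).symm).app L) ≪≫ tmodUnit L
  refine ⟨AmpleEmb.isGloballyGenerated_of_genLocus hL (fun s : (Coh.structureModule X ⟶ L) => s) fun x => ?_, ?_⟩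
  · obtain ⟨σ, hσ⟩ := hG x
    refine ⟨σ ≫ ω.hom, ?_⟩
    rw [AmpleLib.mem_genLocus_iff hL, ← CurveLib.stalkLin_secHom, AmpleLib.secHom_sec]
    obtain ⟨g, hg⟩ := ParaFLib.exists_stalk_gen hL x
    obtain ⟨r, hr⟩ := hg.2 (stalkLin (σ ≫ ω.hom) x (ParaFLib.oneG x))
    rw [← hr]
    refine (AmpleLib.bijective_smul_iff hg r).2 ?_
    obtain ⟨w, hw⟩ : ∃ w, stalkLin (σ ≫ ω.hom) x w = g := by
      rw [stalkLin_comp]
      exact (((isIso_iff_stalk ω.hom).1 inferInstance x).2.comp hσ) g
    obtain ⟨a, rfl⟩ := (ParaFLib.bijective_oneG x).2 w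
    rw [map_smul, ← hr, smul_smul] at hw
    exact IsUnit.of_mul_eq_one a (by
      rw [mul_comm]
      exact hg.1 (hw.trans (one_smul _ g).symm))
  · haveI : Killed (⊥ : X.IdealSheafData) (Coh.structureModule X) → Subsingleton (Coh.HH X (tmod (Coh.structureModule X) L) 1) :=
      fun h => subsingleton_H1_twist (k := k) hdim hL h hG
    haveI := this (fun x r hr n => by rw [hz, Ideal.mem_bot] at hr; rw [hr, zero_smul])
    exact ProjCoh.subsingleton_of_iso (tmodUnit L) 1

end Groth.Agent.H1ZeroLib
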