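import Groth.Agent.H1ZeroLib.SpanSec
import Groth.Agent.AmpleLib.UnivClosed
import Groth.Agent.RelVALib.EmbGen

/-!
# Embeddings by sections generating the section ring in degree one
-/

set_option autoImplicit false
set_option backward.isDefEq.respectTransparency false
set_option backward.isDefEq.respectTransparency.types false
set_option linter.style.haveILetI false

universe u

open CategoryTheory CategoryTheory.Limits AlgebraicGeometry TopologicalSpace Opposite
open Groth.Agent.PullbackMod Groth.Agent.DCohLib Groth.Agent.ParaFLib Groth.Agent.AmpleLib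
open scoped TensorProduct

noncomputable section

namespace Groth.Agent.H1ZeroLib

variable {X Y : Scheme.{u}}

theorem embGen_of_noH1Cover [IsAffine Y] (q : X ⟶ Y) [UniversallyClosed q] {A : X.Modules}
    (hA : CohB1.IsAmple A) (hN : ∀ j : ℕ, NoH1Cover (CohB1.tensorPow A j)) {n : ℕ}
    (s : Fin (n + 1) → (Coh.structureModule X ⟶ A)) (hs : ∀ x, ∃ i, x ∈ CohB1.genLocus A (s i))
    (hspan : ∀ v : Γ(A, ⊤), ∃ r : Fin (n + 1) → Γ(Y, ⊤), v = ∑ b, (show Γ(X, ⊤) from q.appTop (r b)) • sec (s b)) :
    RelVALib.EmbGen q s := by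
  classical
  refine ⟨fun a => isAffineOpen_genLocus_of_universallyClosed q hA (s a), hs, fun a => ?_⟩
  haveI : CompactSpace X := hA.2.1
  haveI := quasiSeparatedSpace_of_isAmple hA
  set U := CohB1.genLocus A (s a) with hU
  set e := resT (sec (s a)) U with he
  intro t ht
  have ht' : ∀ b, t b • e = resT (sec (s b)) U := fun b => by
    have h := ht b
    unfold RelVALib.IsRatio at h
    exact h
  let ev := MvPolynomial.eval₂Hom (q.appLE ⊤ U (fun _ _ => trivial)).hom t
  have key : ∀ (j : ℕ) (τ : Γ(CohB1.tensorPow A (j + 1), ⊤)),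
      ∃ p, resT τ U = ev p • powLoc e (j + 1) := by
    intro j
    induction j with
    | zero =>
      intro τ
      haveI := isIso_pairLeft_one A
      obtain ⟨v, hv⟩ := (ConcreteCategory.bijective_of_isIso
        ((pairLeft (Coh.structureModule X) A (show Γ(Coh.structureModule X, ⊤) from (1 : Γ(X, ⊤)))).app ⊤)).2 τ
      obtain ⟨r, hr⟩ := hspan v
      refine ⟨∑ b, MvPolynomial.C (r b) * MvPolynomial.X b, ?_⟩
      have h1 : resT v U = ev (∑ b, MvPolynomial.C (r b) * MvPolynomial.X b) • e := by
        rw [hr, resT, map_sum, map_sum, Finset.sum_smul]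
        refine Finset.sum_congr rfl fun b _ => ?_
        rw [A.map_smul, map_mul, mul_smul]
        simp only [ev, MvPolynomial.eval₂Hom_C, MvPolynomial.eval₂Hom_X']
        rw [ht' b]
        rfl
      rw [← hv]
      show resT (pairS (Coh.structureModule X) A (resT (show Γ(Coh.structureModule X, ⊤) from (1 : Γ(X, ⊤))) ⊤) v) U =
        _ • pairS (Coh.structureModule X) A (powLoc e 0) e
      rw [resT, res_pairS, ← pairS_smul_right]
      refine congrArg₂ (pairS (Coh.structureModule X) A) ?_ h1
      rw [resT, ParaFLib.res_res]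
      exact map_one (X.presheaf.map (homOfLE (le_top : U ≤ ⊤)).op).hom
    | succ j ih =>
      intro τ
      obtain ⟨τ', hτ⟩ := surjective_mul hA.1 (isInvertible_tensorPow hA.1 j) (hN j) s hs τ
      choose p hp using fun i => ih (τ' i)
      refine ⟨∑ i, p i * MvPolynomial.X i, ?_⟩
      rw [← hτ, resT, map_sum, map_sum, Finset.sum_smul]
      refine Finset.sum_congr rfl fun i _ => ?_
      refine (res_pairS le_top (τ' i) (sec (s i))).trans ?_
      show pairS (CohB1.tensorPow A (j + 1)) A (resT (τ' i) U) (resT (sec (s i)) U) =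
        _ • pairS (CohB1.tensorPow A (j + 1)) A (powLoc e (j + 1)) e
      refine (congrArg₂ (pairS (CohB1.tensorPow A (j + 1)) A) (hp i) (ht' i).symm).trans ?_
      rw [pairS_smul_left, pairS_smul_right, smul_smul, map_mul]
      simp only [ev, MvPolynomial.eval₂Hom_X']
  intro h
  obtain ⟨k, τ, hτ⟩ := exists_extend hA.1 (s a) h
  obtain ⟨p, hp⟩ := key k (pairS (CohB1.tensorPow A k) A (sec τ) (sec (s a)))
  have hinj : Function.Injective fun r : Γ(X, U) => r • powLoc e (k + 1) := fun r r' hrr => by
    refine ((gen_powLoc (gen_genLocus hA.1 (s a)) (k + 1)) U le_rfl).1 ?_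
    change r • (CohB1.tensorPow A (k + 1)).presheaf.map (homOfLE (le_refl U)).op (powLoc e (k + 1)) =
      r' • (CohB1.tensorPow A (k + 1)).presheaf.map (homOfLE (le_refl U)).op (powLoc e (k + 1))
    rw [ParaFLib.res_self]
    exact hrr
  refine ⟨p, hinj ?_⟩
  show ev p • powLoc e (k + 1) = h • powLoc e (k + 1)
  refine hp.symm.trans ?_
  refine (res_pairS le_top (sec τ) (sec (s a))).trans ?_
  show pairS (CohB1.tensorPow A k) A (resT (sec τ) U) e = h • pairS (CohB1.tensorPow A k) A (powLoc e k) e
  rw [hτ, pairS_smul_left]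

theorem isRelVeryAmplePn_of_embGen [IsAffine Y] (q : X ⟶ Y) {A : X.Modules} (hA : PicF.IsInvertible A) {n : ℕ}
    (s : Fin (n + 1) → (Coh.structureModule X ⟶ A)) (h : RelVALib.EmbGen q s) :
    RelAmple.IsRelVeryAmplePn q A := by
  choose t ht using fun a b => ((AmpleEmb.gen_genLocus hA (s a)) _ le_rfl).2 (resT (sec (s b)) (CohB1.genLocus A (s a)))
  simp only [ParaFLib.res_self] at ht
  let F := AmpleEmb.familyOfSections hA s h.affine h.cover t ht
  exact AmpleEmb.isRelVeryAmplePn_of_ratios q F (Iso.refl A) s (fun i => AmpleEmb.gen_genLocus hA (s i)) ht Set.univ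
    (fun i _ => ⟨⊤, isAffineOpen_top Y, fun _ _ => trivial, h.surj i (t i) (ht i)⟩)
    (fun x => (h.cover x).imp fun a ha => ⟨trivial, ha⟩)

end Groth.Agent.H1ZeroLib
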