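import Groth.Agent.H1ZeroLib.Square

/-!
# Ample modules on curves with `H¹(O) = 0` are very ample
-/

set_option autoImplicit false
set_option backward.isDefEq.respectTransparency false
set_option backward.isDefEq.respectTransparency.types false
set_option linter.style.haveILetI false
set_option maxHeartbeats 1000000

universe u

open CategoryTheory CategoryTheory.Limits AlgebraicGeometry TopologicalSpace Opposite
open Groth.Agent.PullbackMod Groth.Agent.DCohLib Groth.Agent.AmpleLib

noncomputable section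

namespace Groth.Agent.H1ZeroLib

/-- Relative very ampleness over a field, with the projective space of the field. -/
theorem exists_closedImmersion_of_pn (k : Type u) [Field k] {X : Scheme.{u}}
    (f : X ⟶ Spec (CommRingCat.of k)) [IsProper f] {L : X.Modules}
    (n : ℕ) (i : X ⟶ CohB1.ProjSpaceOver n (Spec (CommRingCat.of k))) (hi : IsImmersion i)
    (hw : i ≫ CohB1.ProjSpaceOver.toBase n (Spec (CommRingCat.of k)) = f)
    (θ : L ≅ (Scheme.Modules.pullback i).obj (Twist.twistOver n (Spec (CommRingCat.of k)) 1)) :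
    ∃ i : X ⟶ CohB1.ProjSpace n k, IsClosedImmersion i ∧ i ≫ CohB1.ProjSpace.toSpec n k = f ∧
      Nonempty ((Scheme.Modules.pullback i).obj (Twist.twistProjSpace n k 1) ≅ L) := by
  letI : Algebra (ULift.{u} ℤ) k :=
    ((Int.castRingHom k).comp (ULift.ringEquiv : ULift.{u} ℤ ≃+* ℤ).toRingHom).toAlgebra
  obtain ⟨g, hg', ⟨τ⟩⟩ := S4471.exists_bc n (ULift.{u} ℤ) k 1
  let S := Spec (CommRingCat.of k)
  let ε : CohB1.ProjSpace n k ⟶ CohB1.ProjSpaceOver n S := ProjMap.liftOver g (CohB1.ProjSpace.toSpec n k)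
  have hsq : IsPullback ε (CohB1.ProjSpace.toSpec n k) (CohB1.ProjSpaceOver.toBase n S) (𝟙 S) := by
    refine IsPullback.of_right ?_ (by rw [Category.comp_id]; exact ProjMap.liftOver_toBase _ _)
      (IsPullback.of_hasPullback _ _)
    rw [show ε ≫ pullback.fst _ _ = g from ProjMap.liftOver_toInt _ _,
      show 𝟙 S ≫ specULiftZIsTerminal.from S = Spec.map (CommRingCat.ofHom (algebraMap (ULift.{u} ℤ) k)) from
        specULiftZIsTerminal.hom_ext _ _]
    exact hg'
  haveI : IsIso ε := hsq.isIso_fst_of_isIso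
  have hw' : i ≫ CohB1.ProjSpaceOver.toBase n S = f := hw
  let j : X ⟶ CohB1.ProjSpace n k := i ≫ inv ε
  have hj : j ≫ CohB1.ProjSpace.toSpec n k = f := by
    have h1 : inv ε ≫ CohB1.ProjSpace.toSpec n k = CohB1.ProjSpaceOver.toBase n S := by
      rw [IsIso.inv_comp_eq, hsq.w, Category.comp_id]
    rw [Category.assoc, h1, hw']
  haveI := hi
  haveI : IsImmersion j := inferInstanceAs (IsImmersion (i ≫ inv ε))
  haveI : IsProper (j ≫ CohB1.ProjSpace.toSpec n k) := by rw [hj]; infer_instance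
  haveI : IsProper j := IsProper.of_comp j (CohB1.ProjSpace.toSpec n k)
  refine ⟨j, (IsClosedImmersion.iff_isProper_and_mono _).2 ⟨inferInstance, inferInstance⟩, hj, ⟨?_⟩⟩
  have hεt : inv ε ≫ g = pullback.fst _ _ := by
    rw [IsIso.inv_comp_eq]
    exact (ProjMap.liftOver_toInt _ _).symm
  let e₁ : (Scheme.Modules.pullback (inv ε)).obj (Twist.twistProjSpace n k 1) ≅ Twist.twistOver n S 1 :=
    (Scheme.Modules.pullback (inv ε)).mapIso τ.symm ≪≫ (Scheme.Modules.pullbackComp (inv ε) g).app _ ≪≫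
      (Scheme.Modules.pullbackCongr hεt).app _
  exact ((Scheme.Modules.pullbackComp i (inv ε)).app _).symm ≪≫ (Scheme.Modules.pullback i).mapIso e₁ ≪≫ θ.symm

/-- A spanning family of sections gives an embedding in its projective space. -/
theorem exists_closedImmersion_of_embGen (k : Type u) [Field k] {X : Scheme.{u}}
    (f : X ⟶ Spec (CommRingCat.of k)) [IsProper f] {A : X.Modules} (hA : PicF.IsInvertible A) {n : ℕ}
    (s : Fin (n + 1) → (Coh.structureModule X ⟶ A)) (h : RelVALib.EmbGen f s) :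
    ∃ i : X ⟶ CohB1.ProjSpace n k, IsClosedImmersion i ∧ i ≫ CohB1.ProjSpace.toSpec n k = f ∧
      Nonempty ((Scheme.Modules.pullback i).obj (Twist.twistProjSpace n k 1) ≅ A) := by
  choose t ht using fun a b => ((AmpleEmb.gen_genLocus hA (s a)) _ le_rfl).2 (resT (sec (s b)) (CohB1.genLocus A (s a)))
  simp only [ParaFLib.res_self] at ht
  let F := AmpleEmb.familyOfSections hA s h.affine h.cover t ht
  obtain ⟨θ⟩ := AmpleEmb.nonempty_iso_pullback_twistOne (AmpleEmb.intConst X) F s (fun i => AmpleEmb.gen_genLocus hA (s i)) ht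
  have hgen : ∀ i ∈ (Set.univ : Set (Fin (n + 1))), AmpleEmb.GenOver f F i := fun i _ =>
    ⟨⊤, isAffineOpen_top _, fun _ _ => trivial, h.surj i (t i) (ht i)⟩
  exact exists_closedImmersion_of_pn k f n (AmpleEmb.toProjOver f F)
    (AmpleEmb.isImmersion_toProjOver f F Set.univ hgen fun x => (h.cover x).imp fun a ha => ⟨trivial, ha⟩)
    (AmpleEmb.toProjOver_toBase f F)
    (θ ≪≫ (Scheme.Modules.pullbackCongr (AmpleEmb.toProjOver_toInt f F).symm).app _ ≪≫
      ((Scheme.Modules.pullbackComp (AmpleEmb.toProjOver f F) (ProjMap.toInt (Spec (CommRingCat.of k)) n)).app _).symm)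

/-- A basis of sections embeds. -/
theorem exists_closedImmersion_of_basis (k : Type u) [Field k] {X : Scheme.{u}} [X.Over (Spec (CommRingCat.of k))]
    [IsProper (X ↘ Spec (CommRingCat.of k))] {A : X.Modules} (hA : CohB1.IsAmple A)
    (hgg : Curv2.IsGloballyGenerated A) (hN : ∀ j : ℕ, NoH1Cover (CohB1.tensorPow A j)) {d : ℕ}
    (hd : Module.finrank k (Coh.HH X A 0) = d + 1) :
    ∃ i : X ⟶ CohB1.ProjSpace d k, IsClosedImmersion i ∧ i ≫ CohB1.ProjSpace.toSpec d k = X ↘ (Spec (CommRingCat.of k)) ∧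
      Nonempty ((Scheme.Modules.pullback i).obj (Twist.twistProjSpace d k 1) ≅ A) := by
  haveI := EulerIneqLib.isNoetherian_proper (X := X) k
  haveI := EulerIneqLib.finite_HH (k := k) (CurveLib.isCoh_of_isInvertible hA.1) 0
  let b := Module.finBasisOfFinrankEq k (Coh.HH X A 0) hd
  let s : Fin (d + 1) → (Coh.structureModule X ⟶ A) := fun i => DCohLib.secHom A (CurveLib.secOf A (b i))
  have hspan : ∀ v : Γ(A, ⊤), ∃ r : Fin (d + 1) → Γ(Spec (CommRingCat.of k), ⊤),
      v = ∑ i, (show Γ(X, ⊤) from (X ↘ Spec (CommRingCat.of k)).appTop (r i)) • sec (s i) := fun v => by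
    refine ⟨fun i => (Scheme.ΓSpecIso (CommRingCat.of k)).inv (b.repr ((CurveLib.secOf A).symm v) i), ?_⟩
    simp only [s, AmpleLib.sec_secHom]
    conv_lhs => rw [← (CurveLib.secOf A).apply_symm_apply v, ← b.sum_repr ((CurveLib.secOf A).symm v), map_sum]
    refine Finset.sum_congr rfl fun i _ => ?_
    rw [CurveLib.secOf_smul]
    rfl
  refine exists_closedImmersion_of_embGen k _ hA.1 s (embGen_of_noH1Cover _ hA hN s (fun x => ?_) hspan)
  by_contra hne
  push Not at hne
  obtain ⟨r, σ, hσ⟩ := exists_fin_genLocus (k := k) hA.1 hgg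
  obtain ⟨i, hi⟩ := hσ x
  obtain ⟨c, hc⟩ := hspan (sec (σ i))
  rw [AmpleLib.mem_genLocus_iff hA.1, hc] at hi
  obtain ⟨e, he⟩ := ParaFLib.exists_stalk_gen hA.1 x
  choose a ha using fun j => he.2 (A.presheaf.germ ⊤ x trivial (sec (s j)))
  dsimp only at ha
  have ham : ∀ j, a j ∈ IsLocalRing.maximalIdeal (X.presheaf.stalk x) := fun j hu => hne j (by
    rw [AmpleLib.mem_genLocus_iff hA.1, ← ha j]
    exact (AmpleLib.bijective_smul_iff he _).2 hu)
  let C : Fin (d + 1) → X.presheaf.stalk x := fun j =>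
    X.presheaf.germ ⊤ x trivial ((X ↘ Spec (CommRingCat.of k)).appTop (c j))
  have hsum : A.presheaf.germ ⊤ x trivial
      (∑ j, (show Γ(X, ⊤) from (X ↘ Spec (CommRingCat.of k)).appTop (c j)) • sec (s j)) = (∑ j, C j * a j) • e := by
    rw [map_sum, Finset.sum_smul]
    refine Finset.sum_congr rfl fun j _ => ?_
    rw [ParaFLib.germ_smul', ← ha j, smul_smul]
  rw [hsum] at hi
  exact ((IsLocalRing.maximalIdeal _).sum_mem fun j _ => Ideal.mul_mem_left _ (C j) (ham j) :
    _ ∈ IsLocalRing.maximalIdeal (X.presheaf.stalk x)) ((AmpleLib.bijective_smul_iff he _).1 hi)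

end Groth.Agent.H1ZeroLib
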