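import Groth.Agent.H1ZeroLib.Global
import Groth.Agent.SingRRLib.Sep

/-!
# Twisting a globally generated module by a point ideal
-/

set_option autoImplicit false
set_option backward.isDefEq.respectTransparency false
set_option backward.isDefEq.respectTransparency.types false
set_option linter.style.haveILetI false

universe u

open CategoryTheory CategoryTheory.Limits AlgebraicGeometry TopologicalSpace Opposite
open Groth.Agent.PullbackMod Groth.Agent.DCohLib Groth.Agent.CurveLib
open scoped TensorProduct

noncomputable section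

namespace Groth.Agent.H1ZeroLib

variable {X : Scheme.{u}} {k : Type u} [Field k] [IsAlgClosed k] [X.Over (Spec (CommRingCat.of k))]
  [IsProper (X ↘ Spec (CommRingCat.of k))]

include k in
theorem subsingleton_H1_idealMod_point (hdim : topologicalKrullDim X ≤ 1)
    [Subsingleton (Coh.HH X (Coh.structureModule X) 1)] {x : X} (hx : IsClosed ({x} : Set X)) :
    Subsingleton (Coh.HH X (ClSub.idealMod (Scheme.IdealSheafData.vanishingIdeal (⟨{x}, hx⟩ : Closeds X))) 1) := by
  let J := Scheme.IdealSheafData.vanishingIdeal (⟨{x}, hx⟩ : Closeds X)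
  haveI := EulerIneqLib.isNoetherian_proper (X := X) k
  haveI := EulerIneqLib.finite_HH (k := k) (IntLib.isCoh_quotMod J) 0
  haveI : Epi (ClSub.toSubscheme J) := HilbObsLib.epi_toSubscheme J
  have hS := kerSeq_shortExact (ClSub.toSubscheme J) ((epi_iff_stalk (ClSub.toSubscheme J)).1 inferInstance)
  have hxs : x ∈ J.support := by
    rw [← SetLike.mem_coe, Scheme.IdealSheafData.coe_support_vanishingIdeal]; rfl
  have hst : IntMult.stalkIdeal J x = IsLocalRing.maximalIdeal (X.presheaf.stalk x) := by
    haveI : IsIntegral J.subscheme := CurveLib.isIntegral_vanishingIdeal hx isIrreducible_singleton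
    have hz : J.subschemeι (genericPoint J.subscheme) = x := by
      have h : J.subschemeι (genericPoint J.subscheme) ∈ Set.range J.subschemeι := ⟨_, rfl⟩
      rwa [Scheme.IdealSheafData.range_subschemeι, Scheme.IdealSheafData.coe_support_vanishingIdeal] at h
    rw [← hz, ← IdealStalkLib.ker_stalkMap_subschemeι J (genericPoint J.subscheme)]
    exact IsLocalRing.eq_maximalIdeal (RingHom.ker_isMaximal_of_surjective (K := J.subscheme.functionField) _
      (J.subschemeι.stalkMap_surjective (genericPoint J.subscheme)))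
  have hle : Module.finrank k (Coh.HH X (ClSub.quotMod J) 0) ≤ 1 := by
    refine SingRRLib.finrank_le_of_surj k hx ((IntLib.support_quotMod_subset J).trans ?_)
      (fun _ : Fin 1 => (qv J x 1 : (ClSub.quotMod J).presheaf.stalk x)) fun z => ?_
    · rw [Scheme.IdealSheafData.coe_support_vanishingIdeal]
      exact subset_rfl
    obtain ⟨r, rfl⟩ := qv_surjective J x z
    obtain ⟨c, hc⟩ := ShStabLib.residue_toGlobal_surjective k x hx (IsLocalRing.residue _ r)
    refine ⟨fun _ => c, ?_⟩
    rw [Fin.sum_univ_one]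
    let g : X.presheaf.stalk x := X.presheaf.germ ⊤ x trivial (Coh.toGlobal (X ↘ Spec (CommRingCat.of k)) c)
    show qv J x r = g • qv J x 1
    rw [← qv_eq_smul, ← sub_eq_zero, qv, qv, ← map_sub, ← sub_smul]
    refine (qv_eq_zero_iff J x _).2 ?_
    rw [hst]
    refine (IsLocalRing.residue_eq_zero_iff _).1 ?_
    rw [map_sub, sub_eq_zero]
    exact hc.symm
  have hsur : Function.Surjective (hMap (k := k) (ClSub.toSubscheme J) 0) := by
    let one := (secOf (Coh.structureModule X)).symm (AmpleLib.sec (𝟙 (Coh.structureModule X)))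
    have h1 : hMap (k := k) (ClSub.toSubscheme J) 0 one ≠ 0 := fun h => by
      have h2 := congrArg (secOf (ClSub.quotMod J)) h
      rw [secOf_hMap, AddEquiv.apply_symm_apply, map_zero] at h2
      have h3 : stalkLin (ClSub.toSubscheme J) x (ParaFLib.oneG x) = 0 := by
        refine (stalkLin_germ (ClSub.toSubscheme J) (U := ⊤) x trivial _).trans ?_
        refine (congrArg _ h2).trans ?_
        exact map_zero _
      exact stalkIdeal_le_maximal hxs ((qv_eq_zero_iff J x 1).1 (by rw [qv, one_smul]; exact h3)) isUnit_one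
    intro z
    haveI : Nontrivial (Coh.HH X (ClSub.quotMod J) 0) := nontrivial_of_ne _ _ h1
    obtain ⟨c, rfl⟩ := exists_smul_eq_of_finrank_eq_one (le_antisymm hle Module.finrank_pos) h1 z
    exact ⟨c • one, map_smul _ _ _⟩
  refine ⟨fun a b => ?_⟩
  have hinj : Function.Injective (hMap (k := k) (kernel.ι (ClSub.toSubscheme J)) 1) := by
    rw [injective_iff_map_eq_zero]
    intro c hc
    obtain ⟨d, rfl⟩ := (range_hδ (k := k) hS 0).ge (LinearMap.mem_ker.2 hc)
    obtain ⟨e, rfl⟩ := hsur d
    exact LinearMap.mem_ker.1 ((range_hMap_g (k := k) hS 0).le ⟨e, rfl⟩)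
  exact hinj (Subsingleton.elim (α := Coh.HH X (Coh.structureModule X) 1) _ _)

include k in
theorem subsingleton_H1_tensor_point (hdim : topologicalKrullDim X ≤ 1)
    [Subsingleton (Coh.HH X (Coh.structureModule X) 1)] {E : X.Modules} (hE : FlatMod.IsFinLocFree E)
    (hgg : Curv2.IsGloballyGenerated E) {x : X} (hx : IsClosed ({x} : Set X)) :
    Subsingleton (Coh.HH X (CohB1.tensorMod E
      (ClSub.idealMod (Scheme.IdealSheafData.vanishingIdeal (⟨{x}, hx⟩ : Closeds X)))) 1) := by
  haveI := EulerIneqLib.isNoetherian_proper (X := X) k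
  haveI := subsingleton_H1_idealMod_point (k := k) hdim hx
  set I := ClSub.idealMod (Scheme.IdealSheafData.vanishingIdeal (⟨{x}, hx⟩ : Closeds X))
  obtain ⟨n, σ, hσ⟩ := exists_fin_sections (k := k) (CurveLib.isCoh_of_isFinLocFree hE) hgg
  show Subsingleton (Coh.HH X (tmod E I) 1)
  refine subsingleton_H1_of_jointly (k := k) hdim n (tmod E I) (fun i => (tmodUnit I).inv ≫ tmap (σ i) I) fun y => ?_
  refine eq_top_iff.2 fun z _ => ?_
  obtain ⟨z, rfl⟩ := (stalkTensor y E I).surjective z
  induction z with
  | zero => rw [map_zero]; exact zero_mem _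
  | add a b ha hb => rw [map_add]; exact add_mem (ha trivial) (hb trivial)
  | tmul e m =>
    let g : E.presheaf.stalk y →ₗ[X.presheaf.stalk y] (tmod E I).presheaf.stalk y :=
      (stalkTensor y E I).toLinearMap ∘ₗ (TensorProduct.mk (X.presheaf.stalk y) (E.presheaf.stalk y) (I.presheaf.stalk y)).flip m
    show g e ∈ _
    refine (?_ : (⨆ i, LinearMap.range (stalkLin (σ i) y)) ≤
      (⨆ i, LinearMap.range (stalkLin ((tmodUnit I).inv ≫ tmap (σ i) I) y)).comap g) ((hσ y).symm ▸ Submodule.mem_top)
    refine iSup_le fun i => ?_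
    rintro _ ⟨w, rfl⟩
    obtain ⟨v, hv⟩ := ((isIso_iff_stalk (tmodUnit I).inv).1 inferInstance y).2
      (stalkTensor y (Coh.structureModule X) I (w ⊗ₜ[X.presheaf.stalk y] m))
    refine Submodule.mem_iSup_of_mem i ⟨v, ?_⟩
    rw [stalkLin_comp, LinearMap.comp_apply, hv, stalkTensor_natural_left, LinearMap.rTensor_tmul]
    rfl

end Groth.Agent.H1ZeroLib
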