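import Groth.Agent.H1ZeroLib.Square
import Groth.Agent.CurveLib.Finite
import Groth.Agent.AmpleEmb.SectionsGe

/-!
# Powers of an invertible module with a regular section
-/

set_option autoImplicit false
set_option backward.isDefEq.respectTransparency false
set_option backward.isDefEq.respectTransparency.types false
set_option linter.style.haveILetI false

universe u

open CategoryTheory CategoryTheory.Limits AlgebraicGeometry TopologicalSpace Opposite
open Groth.Agent.PullbackMod Groth.Agent.DCohLib Groth.Agent.AmpleLib Groth.Agent.CurveLib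
open scoped TensorProduct

noncomputable section

namespace Groth.Agent.H1ZeroLib

variable {X : Scheme.{u}} {L : X.Modules} (hL : PicF.IsInvertible L) (s : Coh.structureModule X ⟶ L)

include hL in
/-- A regular section generates at every generic point. -/
theorem dim_compl_genLocus [Mono s] [NoetherianSpace X] (hdim : topologicalKrullDim X ≤ 1) :
    topologicalKrullDim (((CohB1.genLocus L s : Set X))ᶜ : Set X) ≤ 0 := by
  refine Order.krullDim_nonpos_iff_forall_isMax.2 fun Z Z' hle => ?_
  by_contra hne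
  let ι : IrreducibleCloseds (((CohB1.genLocus L s : Set X))ᶜ : Set X) → IrreducibleCloseds X :=
    IrreducibleCloseds.map _ continuous_subtype_val
  have hι : StrictMono ι := IrreducibleCloseds.map_strictMono_of_isInducing Topology.IsInducing.subtypeVal
  have hlt : ι Z < ι Z' := hι (lt_of_le_not_ge hle hne)
  have hsub : ((ι Z' : IrreducibleCloseds X) : Set X) ⊆ ((CohB1.genLocus L s : Set X))ᶜ :=
    closure_minimal (by rintro _ ⟨x, -, rfl⟩; exact x.2) (CohB1.genLocus L s).2.isClosed_compl
  obtain ⟨η, hη⟩ := QuasiSober.sober (ι Z').isIrreducible (ι Z').isClosed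
  refine hsub hη.mem ?_
  have hmax : ∀ v : X, v ⤳ η → v = η := fun v hv => by
    let W : IrreducibleCloseds X := ⟨closure {v}, isIrreducible_singleton.closure, isClosed_closure⟩
    have hW : ι Z' ≤ W := SetLike.coe_subset_coe.1 fun z hz => by
      rw [← hη.def] at hz
      exact (hv.trans (specializes_iff_mem_closure.2 hz)).mem_closure
    rcases hW.lt_or_eq with hlt' | heq
    · let p : LTSeries (IrreducibleCloseds X) :=
        LTSeries.mk 2 ![ι Z, ι Z', W] (Fin.strictMono_iff_lt_succ.2 fun i => by fin_cases i <;> simpa)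
      exact absurd ((Order.LTSeries.length_le_krullDim p).trans hdim) (by show ¬((2 : ℕ) : WithBot ℕ∞) ≤ 1; decide)
    · have h1 : closure ({v} : Set X) = closure {η} := (congrArg SetLike.coe heq).symm.trans hη.def.symm
      exact ((inseparable_iff_closure_eq).2 h1).eq
  haveI : Ring.KrullDimLE 0 (X.presheaf.stalk η) := Ring.krullDimLE_iff.2 (by
    rw [ringKrullDim_stalk_eq_coheight, Order.coheight_eq_zero.2 fun v hv => (hmax v hv).le]
    simp)
  show η ∈ CohB1.genLocus L s
  rw [AmpleLib.mem_genLocus_iff hL]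
  obtain ⟨e, he⟩ := ParaFLib.exists_stalk_gen hL η
  obtain ⟨a, ha⟩ := he.2 (L.presheaf.germ ⊤ η trivial (sec s))
  dsimp only at ha
  rw [← ha]
  refine (AmpleLib.bijective_smul_iff he a).2 ?_
  by_contra hu
  obtain ⟨n, hn⟩ := Ring.KrullDimLE.isNilpotent_iff_mem_nonunits.2 hu
  have hs : ∀ r : X.presheaf.stalk η, r * a = 0 → r = 0 := fun r hr => by
    have h1 : stalkLin s η (r • ParaFLib.oneG η) = 0 := by
      rw [map_smul, show stalkLin s η (ParaFLib.oneG η) = a • e from
        (stalkLin_germ s (U := ⊤) η trivial _).trans ha.symm, smul_smul, hr, zero_smul]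
    refine (ParaFLib.bijective_oneG η).1 (?_ : r • ParaFLib.oneG η = (0 : X.presheaf.stalk η) • ParaFLib.oneG η)
    rw [zero_smul]
    exact (mono_iff_stalk s).1 inferInstance η (h1.trans (map_zero _).symm)
  clear hn
  have : ∀ m, a ^ m = 0 → (1 : X.presheaf.stalk η) = 0 := fun m => by
    induction m with
    | zero => intro h; simpa using h
    | succ m ih => intro h; exact ih (hs _ (by rwa [← pow_succ]))
  obtain ⟨n, hn⟩ := Ring.KrullDimLE.isNilpotent_iff_mem_nonunits.2 hu
  exact one_ne_zero (this n hn)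

variable {k : Type u} [Field k] [X.Over (Spec (CommRingCat.of k))] [IsProper (X ↘ Spec (CommRingCat.of k))]
  (hdim : topologicalKrullDim X ≤ 1) [Mono s]

include k hdim hL in
/-- Multiplying by a regular section keeps `H¹ = 0` and produces generating sections where it vanishes. -/
theorem step_regSec {N : X.Modules} (hN : PicF.IsInvertible N) (h1 : Subsingleton (Coh.HH X N 1)) :
    Subsingleton (Coh.HH X (tmod N L) 1) ∧
      ∀ x, x ∉ CohB1.genLocus L s → ∃ τ : Coh.structureModule X ⟶ tmod N L, x ∈ CohB1.genLocus (tmod N L) τ := by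
  haveI := EulerIneqLib.isNoetherian_proper (X := X) k
  set C : Set X := ((CohB1.genLocus L s : Set X))ᶜ
  have hC : IsClosed C := (CohB1.genLocus L s).2.isClosed_compl
  have hd : topologicalKrullDim C ≤ 0 := dim_compl_genLocus hL s hdim
  let f := pairRight N L (sec s)
  have hsurj : ∀ x ∉ C, Function.Surjective (stalkLin f x) := fun x hx z => by
    have hg := (AmpleLib.mem_genLocus_iff hL).1 (not_not.1 hx : x ∈ CohB1.genLocus L s)
    obtain ⟨z, rfl⟩ := (stalkTensor x N L).surjective z
    induction z with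
    | zero => exact ⟨0, by rw [map_zero, map_zero]⟩
    | add p q hp hq =>
      obtain ⟨a, ha⟩ := hp
      obtain ⟨b, hb⟩ := hq
      exact ⟨a + b, by rw [map_add, map_add, ha, hb]⟩
    | tmul w v =>
      obtain ⟨c, rfl⟩ := hg.2 v
      exact ⟨c • w, (stalk_pairRight N L (sec s) x (c • w)).trans (congrArg _ (TensorProduct.smul_tmul c w _))⟩
  have hH : Subsingleton (Coh.HH X (tmod N L) 1) := by
    haveI := h1
    exact (CurveLib.hMap_one_surjective (k := k) hdim f hC hd hsurj).subsingleton
  refine ⟨hH, fun x hx => ?_⟩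
  obtain ⟨e, he⟩ := ParaFLib.exists_stalk_gen hL x
  obtain ⟨g, hg⟩ := ParaFLib.exists_stalk_gen hN x
  let π := cokernel.π f
  haveI : Mono f := (mono_iff_stalk f).2 fun y => (injective_iff_map_eq_zero _).2 fun v hv => by
    obtain ⟨e', he'⟩ := ParaFLib.exists_stalk_gen hL y
    obtain ⟨g', hg'⟩ := ParaFLib.exists_stalk_gen hN y
    obtain ⟨a', ha'⟩ := he'.2 (L.presheaf.germ ⊤ y trivial (sec s))
    obtain ⟨c', rfl⟩ := hg'.2 v
    dsimp only at ha'
    dsimp only at hv ⊢
    rw [stalk_pairRight, ← ha', TensorProduct.tmul_smul, ← TensorProduct.smul_tmul', map_smul, map_smul,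
      smul_smul] at hv
    have h0 : a' * c' = 0 := (AmpleLib.bijective_stalkTensor (x := y) hg' he').1 (hv.trans (zero_smul _ _).symm)
    have h2 : stalkLin s y (c' • ParaFLib.oneG y) = 0 := by
      rw [map_smul, show stalkLin s y (ParaFLib.oneG y) = a' • e' from
        (stalkLin_germ s (U := ⊤) y trivial _).trans ha'.symm, smul_smul, mul_comm, h0, zero_smul]
    have h3 : c' • ParaFLib.oneG y = (0 : X.presheaf.stalk y) • ParaFLib.oneG y := by
      rw [zero_smul]
      exact (mono_iff_stalk s).1 inferInstance y (h2.trans (map_zero _).symm)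
    rw [(ParaFLib.bijective_oneG y).1 h3, zero_smul]
  have hsupp : CohB1.support (cokernel f) ⊆ C := fun y hy => by
    by_contra hyC
    exact hy (DevLib.subsingleton_coker f (hsurj y hyC))
  obtain ⟨q, hq, -⟩ := exists_global_germ' hC hd (cokernel f) hsupp x (stalkLin π x (stalkTensor x N L (g ⊗ₜ e)))
  haveI : Subsingleton (Coh.HH X (kernel π) 1) := by
    haveI := h1
    refine subsingleton_H1_of_surjective (k := k) hdim (kernel.lift π f (cokernel.condition f)) fun y z => ?_
    obtain ⟨w, hw⟩ := (DevLib.coker_exact f y (stalkLin (kernel.ι π) y z)).1 (HilbObsLib.stalk_kernel_ι_comp π y z)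
    refine ⟨w, (mono_iff_stalk (kernel.ι π)).1 inferInstance y ?_⟩
    rw [← LinearMap.comp_apply, ← stalkLin_comp, kernel.lift_ι, hw]
  obtain ⟨τ, hτ⟩ := exists_lift (k := k) π (DevLib.coker_surjective f) (DCohLib.secHom _ q)
  refine ⟨τ, ?_⟩
  refine (AmpleLib.mem_genLocus_iff (L := tmod N L) (AmpleLib.isInvertible_tensor hN hL)).2 ?_
  have hbij := AmpleLib.bijective_stalkTensor (x := x) hg he
  obtain ⟨c, hc⟩ := hbij.2 ((tmod N L).presheaf.germ ⊤ x trivial (sec τ))
  dsimp only at hc
  rw [← hc]
  refine (AmpleLib.bijective_smul_iff hbij c).2 ?_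
  have h0 : stalkLin π x ((c - 1) • stalkTensor x N L (g ⊗ₜ e)) = 0 := by
    rw [sub_smul, one_smul, map_sub, sub_eq_zero, ← hq, hc]
    refine Eq.trans ?_ (CurveLib.stalkLin_secHom q x)
    rw [← hτ, stalkLin_comp, LinearMap.comp_apply]
    exact congrArg (stalkLin π x) (stalkLin_germ τ (U := ⊤) x trivial _).symm
  obtain ⟨w, hw⟩ := (DevLib.coker_exact f x _).1 h0
  obtain ⟨b, hb⟩ := hg.2 w
  obtain ⟨a, ha⟩ := he.2 (L.presheaf.germ ⊤ x trivial (sec s))
  dsimp only at hb ha
  have ha' : ¬ IsUnit a := fun hu => hx (by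
    rw [AmpleLib.mem_genLocus_iff hL, ← ha]
    exact (AmpleLib.bijective_smul_iff he a).2 hu)
  rw [stalk_pairRight, ← hb, ← ha, TensorProduct.tmul_smul, ← TensorProduct.smul_tmul', map_smul, map_smul,
    smul_smul] at hw
  have h1' : a * b = c - 1 := hbij.1 hw
  have hm : c - 1 ∈ IsLocalRing.maximalIdeal (X.presheaf.stalk x) := h1' ▸ Ideal.mul_mem_right _ _ ha'
  by_contra hu
  have h2 : (1 : X.presheaf.stalk x) ∈ IsLocalRing.maximalIdeal (X.presheaf.stalk x) := by
    simpa using sub_mem (show c ∈ IsLocalRing.maximalIdeal (X.presheaf.stalk x) from hu) hm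
  exact h2 isUnit_one

include k hdim s in
/-- Higher powers are globally generated and acyclic. -/
theorem gg_pow_regSec (hL' : PicF.IsInvertible L) (h1 : Subsingleton (Coh.HH X L 1)) (n : ℕ) :
    Subsingleton (Coh.HH X (CohB1.tensorPow L (n + 1)) 1) ∧ Curv2.IsGloballyGenerated (CohB1.tensorPow L (n + 2)) := by
  have hH : ∀ m, Subsingleton (Coh.HH X (CohB1.tensorPow L (m + 1)) 1) := fun m => by
    induction m with
    | zero => exact CurveLib.subsingleton_HH_iso (AmpleLib.powOne L).symm 1 h1
    | succ m ih => exact (step_regSec hL' s (k := k) hdim (AmpleLib.isInvertible_tensorPow hL' (m + 1)) ih).1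
  refine ⟨hH n, ?_⟩
  have hI := AmpleLib.isInvertible_tensorPow hL' (n + 2)
  refine AmpleEmb.isGloballyGenerated_of_genLocus hI (ι := Coh.structureModule X ⟶ CohB1.tensorPow L (n + 2)) id fun x => ?_
  by_cases hx : x ∈ CohB1.genLocus L s
  · obtain ⟨U, hxU, hU⟩ := AmpleLib.mem_genLocus_iff'.1 hx
    refine ⟨DCohLib.secHom _ (AmpleLib.powLoc (sec s) (n + 2)), ?_⟩
    refine AmpleLib.mem_genLocus_iff'.2 ⟨U, hxU, ?_⟩
    rw [id_eq, AmpleLib.sec_secHom]
    have key : ∀ m, resT (AmpleLib.powLoc (sec s) m) U = AmpleLib.powLoc (resT (sec s) U) m := fun m => by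
      induction m with
      | zero => exact map_one (X.presheaf.map (homOfLE (le_top : U ≤ ⊤)).op).hom
      | succ m ih =>
        show resT (pairS (CohB1.tensorPow L m) L (AmpleLib.powLoc (sec s) m) (sec s)) U = _
        rw [resT, res_pairS]
        exact congrArg (fun v => pairS (CohB1.tensorPow L m) L v (resT (sec s) U)) ih
    rw [key]
    exact AmpleLib.gen_powLoc hU (n + 2)
  · exact (step_regSec hL' s (k := k) hdim (AmpleLib.isInvertible_tensorPow hL' (n + 1)) (hH n)).2 x hx

end Groth.Agent.H1ZeroLib
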