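import Groth.Agent.H1ZeroLib.Relative
import Groth.Agent.H1ZeroLib.Embed
import Groth.Agent.CurveLib.Ample

/-!
# Ample modules over an affine base with small fibres and `H¹(O) = 0` are very ample
-/

set_option autoImplicit false
set_option backward.isDefEq.respectTransparency false
set_option backward.isDefEq.respectTransparency.types false
set_option linter.style.haveILetI false

universe u

open CategoryTheory CategoryTheory.Limits AlgebraicGeometry TopologicalSpace Opposite
open Groth.Agent.PullbackMod Groth.Agent.DCohLib Groth.Agent.AmpleLib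
open Groth.Agent.CohBase (HEquiv_map H0Equiv_hmap)
open scoped TensorProduct

noncomputable section

namespace Groth.Agent.H1ZeroLib

variable {X : Scheme.{u}}

theorem secOf_smul_top (N : X.Modules) (r : Coh.Γtop X) (c : Coh.HH X N 0) :
    CurveLib.secOf N (r • c) = (show Γ(X, ⊤) from r) • CurveLib.secOf N c := by
  show CohBase.H0Equiv (⊤ : X.Opens) (Coh.toAb N)
    (CohBase.HEquiv _ 0 (Sheaf.H.map (Coh.smulAb N r) 0 c)) = _
  rw [HEquiv_map, H0Equiv_hmap, Coh.smulAb_app]
  show X.presheaf.map (homOfLE le_top).op (show Γ(X, ⊤) from r) • _ = (show Γ(X, ⊤) from r) • _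
  rw [show (homOfLE (le_top : (⊤ : X.Opens) ≤ ⊤)).op = 𝟙 _ from rfl, X.presheaf.map_id]
  rfl

variable {A : Type u} [CommRing A] [IsNoetherianRing A] (g : X ⟶ Spec (CommRingCat.of A)) [IsProper g]

include g in
/-- Relatively ample modules are nef on the fibres. -/
theorem relNef_of_isAmple {L : X.Modules} (hA : CohB1.IsAmple L) (K : Type u) [Field K] (i : A →+* K)
    (J : X.IdealSheafData) (t : J.subscheme ⟶ Spec (CommRingCat.of K)) (hI : AlgebraicGeometry.IsIntegral J.subscheme)
    (hd : topologicalKrullDim ↥J.subscheme = 1) (ht : t ≫ Spec.map (CommRingCat.ofHom i) = J.subschemeι ≫ g) :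
    0 ≤ @Curv2.deg K _ J.subscheme ⟨t⟩ ((Scheme.Modules.pullback J.subschemeι).obj L) 1 := by
  letI : J.subscheme.Over (Spec (CommRingCat.of K)) := ⟨t⟩
  haveI : IsProper t := by
    haveI : IsProper (t ≫ Spec.map (CommRingCat.ofHom i)) := by rw [ht]; infer_instance
    exact IsProper.of_comp t (Spec.map (CommRingCat.ofHom i))
  haveI : IsProper (J.subscheme ↘ Spec (CommRingCat.of K)) := ‹IsProper t›
  exact ((CurveLib.isAmple_iff_deg_pos (k := K) hd (AmpleLib.isInvertible_pullback _ hA.1)).1
    (AmpleLib.isAmple_pullback J.subschemeι hA)).le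

/-- Ample modules are very ample over the base. -/
theorem isRelVeryAmplePn_of_ample (hfib : ∀ y, topologicalKrullDim ↥(g.fiber y) ≤ (1 : ℕ))
    [hO : Subsingleton (Coh.HH X (Coh.structureModule X) 1)] {L : X.Modules} (hA : CohB1.IsAmple L) :
    RelAmple.IsRelVeryAmplePn g L := by
  haveI : CompactSpace X := QuasiCompact.compactSpace_of_compactSpace g
  haveI : IsLocallyNoetherian X := LocallyOfFiniteType.isLocallyNoetherian g
  haveI : IsNoetherian X := {}
  have hL := hA.1
  obtain ⟨hgg, hL1⟩ := rel_gg_and_H1 g hfib hL (fun K _ i J t hI hd ht => relNef_of_isAmple g hA K i J t hI hd ht)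
  choose t ht using exists_genLocus_of_isGloballyGenerated hL hgg
  obtain ⟨T, hT⟩ := isCompact_univ.elim_finite_subcover (fun x : X => (CohB1.genLocus L (t x) : Set X))
    (fun x => (CohB1.genLocus L (t x)).2) (fun x _ => Set.mem_iUnion.2 ⟨x, ht x⟩)
  let σ : Fin T.card → (Coh.structureModule X ⟶ L) := fun i => t (T.equivFin.symm i).1
  have hσ : ∀ x, ∃ i, x ∈ CohB1.genLocus L (σ i) := fun x => by
    obtain ⟨y, hy, hxy⟩ := Set.mem_iUnion₂.1 (hT (Set.mem_univ x))
    exact ⟨T.equivFin ⟨y, hy⟩, by simp only [σ, Equiv.symm_apply_apply]; exact hxy⟩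
  have hcover : ∀ j : ℕ, NoH1Cover (CohB1.tensorPow L j) := by
    intro j
    induction j with
    | zero =>
      haveI : Coh.IsQCoh (CohB1.tensorPow L 0) := InvExt.isQCoh_of_isInvertible (isInvertible_tensorPow hL 0)
      exact noH1Cover_rel g hfib hO
    | succ j ih =>
      haveI : Coh.IsQCoh (CohB1.tensorPow L (j + 1)) :=
        InvExt.isQCoh_of_isInvertible (isInvertible_tensorPow hL (j + 1))
      refine noH1Cover_rel g hfib (ih _ _ (fun i => pairRight (CohB1.tensorPow L j) L (sec (σ i))) fun x => ?_)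
      obtain ⟨a, ha⟩ := hσ x
      rw [mem_genLocus_iff hL] at ha
      refine eq_top_iff.2 fun z _ => Submodule.mem_iSup_of_mem a ?_
      obtain ⟨z, rfl⟩ := (stalkTensor x (CohB1.tensorPow L j) L).surjective z
      induction z with
      | zero => exact ⟨0, by rw [map_zero, map_zero]⟩
      | add p q hp hq => rw [map_add]; exact add_mem (hp trivial) (hq trivial)
      | tmul w v =>
        obtain ⟨c, rfl⟩ := ha.2 v
        exact ⟨c • w, (stalk_pairRight (CohB1.tensorPow L j) L (sec (σ a)) x (c • w)).trans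
          (congrArg _ (TensorProduct.smul_tmul c w _))⟩
  letI : Module A (Coh.HH X L 0) := Module.compHom _ (Coh.toGlobal g)
  haveI : Module.Finite A (Coh.HH X L 0) :=
    ProperFin.allFin_of_isCoh (A := A) g L (CurveLib.isCoh_of_isInvertible hL) 0
  obtain ⟨m, v, hv⟩ := Module.Finite.exists_fin (R := A) (M := Coh.HH X L 0)
  let s : Fin (T.card + m + 1) → (Coh.structureModule X ⟶ L) :=
    Fin.snoc (Fin.append σ fun i => DCohLib.secHom L (CurveLib.secOf L (v i))) 0
  refine isRelVeryAmplePn_of_embGen g hL s (embGen_of_noH1Cover g hA hcover s (fun x => ?_) fun z => ?_)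
  · obtain ⟨i, hi⟩ := hσ x
    refine ⟨(Fin.castAdd _ i).castSucc, ?_⟩
    rw [show s (Fin.castAdd _ i).castSucc = σ i by simp [s]]
    exact hi
  · obtain ⟨c, hc⟩ := (Submodule.mem_span_range_iff_exists_fun A).1
      (hv.symm ▸ Submodule.mem_top : (CurveLib.secOf L).symm z ∈ Submodule.span A (Set.range v))
    refine ⟨Fin.snoc (Fin.append (fun _ : Fin T.card => (0 : Γ(Spec (CommRingCat.of A), ⊤)))
      fun i => (Scheme.ΓSpecIso (CommRingCat.of A)).inv (c i)) 0, ?_⟩
    rw [Fin.sum_univ_castSucc, Fin.sum_univ_add]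
    simp only [s, Fin.snoc_castSucc, Fin.snoc_last, Fin.append_left, Fin.append_right, map_zero, zero_smul,
      Finset.sum_const_zero, zero_add, add_zero, AmpleLib.sec_secHom]
    conv_lhs => rw [← (CurveLib.secOf L).apply_symm_apply z, ← hc, map_sum]
    refine Finset.sum_congr rfl fun i _ => ?_
    exact secOf_smul_top L (Coh.toGlobal g (c i)) (v i)

end Groth.Agent.H1ZeroLib
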