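import Groth.Agent.H1ZeroLib.VeryAmple
import Groth.Agent.LocFreeHomLib.Coherence
import Groth.Agent.AmpleLib.RelLocal


/-!
# Embeddings by sections generating the section ring in degree one
-/

set_option autoImplicit false
set_option backward.isDefEq.respectTransparency false
set_option backward.isDefEq.respectTransparency.types false
set_option linter.style.haveILetI false

universe u

open CategoryTheory CategoryTheory.Limits AlgebraicGeometry TopologicalSpace Opposite
open Groth.Agent.PullbackMod Groth.Agent.DCohLib Groth.Agent.ParaFLib Groth.Agent.AmpleLib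
open scoped TensorProduct

noncomputable section

namespace Groth.Agent.H1ZeroLib

variable {X Y : Scheme.{u}}

theorem embGen_of_mul [IsAffine Y] (q : X ⟶ Y) [UniversallyClosed q] {A : X.Modules}
    (hA : CohB1.IsAmple A) {n : ℕ}
    (s : Fin (n + 1) → (Coh.structureModule X ⟶ A))
    (hmul : ∀ (j : ℕ) (σ : Γ(tmod (CohB1.tensorPow A (j + 1)) A, ⊤)),
      ∃ τ : Fin (n + 1) → Γ(CohB1.tensorPow A (j + 1), ⊤), ∑ i, pairS (CohB1.tensorPow A (j + 1)) A (τ i) (sec (s i)) = σ) (hs : ∀ x, ∃ i, x ∈ CohB1.genLocus A (s i))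
    (hspan : ∀ v : Γ(A, ⊤), ∃ r : Fin (n + 1) → Γ(Y, ⊤), v = ∑ b, (show Γ(X, ⊤) from q.appTop (r b)) • sec (s b)) :
    RelVALib.EmbGen q s := by
  classical
  refine ⟨fun a => isAffineOpen_genLocus_of_universallyClosed q hA (s a), hs, fun a => ?_⟩
  haveI : CompactSpace X := hA.2.1
  haveI := quasiSeparatedSpace_of_isAmple hA
  set U := CohB1.genLocus A (s a) with hU
  set e := resT (sec (s a)) U with he
  intro t ht
  have ht' : ∀ b, t b • e = resT (sec (s b)) U := fun b => by
    have h := ht b
    unfold RelVALib.IsRatio at h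
    exact h
  let ev := MvPolynomial.eval₂Hom (q.appLE ⊤ U (fun _ _ => trivial)).hom t
  have key : ∀ (j : ℕ) (τ : Γ(CohB1.tensorPow A (j + 1), ⊤)),
      ∃ p, resT τ U = ev p • powLoc e (j + 1) := by
    intro j
    induction j with
    | zero =>
      intro τ
      haveI := isIso_pairLeft_one A
      obtain ⟨v, hv⟩ := (ConcreteCategory.bijective_of_isIso
        ((pairLeft (Coh.structureModule X) A (show Γ(Coh.structureModule X, ⊤) from (1 : Γ(X, ⊤)))).app ⊤)).2 τ
      obtain ⟨r, hr⟩ := hspan v
      refine ⟨∑ b, MvPolynomial.C (r b) * MvPolynomial.X b, ?_⟩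
      have h1 : resT v U = ev (∑ b, MvPolynomial.C (r b) * MvPolynomial.X b) • e := by
        rw [hr, resT, map_sum, map_sum, Finset.sum_smul]
        refine Finset.sum_congr rfl fun b _ => ?_
        rw [A.map_smul, map_mul, mul_smul]
        simp only [ev, MvPolynomial.eval₂Hom_C, MvPolynomial.eval₂Hom_X']
        rw [ht' b]
        rfl
      rw [← hv]
      show resT (pairS (Coh.structureModule X) A (resT (show Γ(Coh.structureModule X, ⊤) from (1 : Γ(X, ⊤))) ⊤) v) U =
        _ • pairS (Coh.structureModule X) A (powLoc e 0) e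
      rw [resT, res_pairS, ← pairS_smul_right]
      refine congrArg₂ (pairS (Coh.structureModule X) A) ?_ h1
      rw [resT, ParaFLib.res_res]
      exact map_one (X.presheaf.map (homOfLE (le_top : U ≤ ⊤)).op).hom
    | succ j ih =>
      intro τ
      obtain ⟨τ', hτ⟩ := hmul j τ
      choose p hp using fun i => ih (τ' i)
      refine ⟨∑ i, p i * MvPolynomial.X i, ?_⟩
      rw [← hτ, resT, map_sum, map_sum, Finset.sum_smul]
      refine Finset.sum_congr rfl fun i _ => ?_
      refine (res_pairS le_top (τ' i) (sec (s i))).trans ?_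
      show pairS (CohB1.tensorPow A (j + 1)) A (resT (τ' i) U) (resT (sec (s i)) U) =
        _ • pairS (CohB1.tensorPow A (j + 1)) A (powLoc e (j + 1)) e
      refine (congrArg₂ (pairS (CohB1.tensorPow A (j + 1)) A) (hp i) (ht' i).symm).trans ?_
      rw [pairS_smul_left, pairS_smul_right, smul_smul, map_mul]
      simp only [ev, MvPolynomial.eval₂Hom_X']
  intro h
  obtain ⟨k, τ, hτ⟩ := exists_extend hA.1 (s a) h
  obtain ⟨p, hp⟩ := key k (pairS (CohB1.tensorPow A k) A (sec τ) (sec (s a)))
  have hinj : Function.Injective fun r : Γ(X, U) => r • powLoc e (k + 1) := fun r r' hrr => by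
    refine ((gen_powLoc (gen_genLocus hA.1 (s a)) (k + 1)) U le_rfl).1 ?_
    change r • (CohB1.tensorPow A (k + 1)).presheaf.map (homOfLE (le_refl U)).op (powLoc e (k + 1)) =
      r' • (CohB1.tensorPow A (k + 1)).presheaf.map (homOfLE (le_refl U)).op (powLoc e (k + 1))
    rw [ParaFLib.res_self]
    exact hrr
  refine ⟨p, hinj ?_⟩
  show ev p • powLoc e (k + 1) = h • powLoc e (k + 1)
  refine hp.symm.trans ?_
  refine (res_pairS le_top (sec τ) (sec (s a))).trans ?_
  show pairS (CohB1.tensorPow A k) A (resT (sec τ) U) e = h • pairS (CohB1.tensorPow A k) A (powLoc e k) e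
  rw [hτ, pairS_smul_left]


/-! ### Multiplication by squares -/

theorem bij_app_iso {M N : X.Modules} (f : M ⟶ N) [IsIso f] : Function.Bijective (f.app ⊤) :=
  ConcreteCategory.bijective_of_isIso (f.app ⊤)

theorem isIso_assocMap (A G F : X.Modules) : IsIso (LocFreeHomLib.assocMap A G F) := by
  unfold LocFreeHomLib.assocMap; infer_instance

variable {k : Type u} [Field k] [X.Over (Spec (CommRingCat.of k))] [IsProper (X ↘ Spec (CommRingCat.of k))]
  (hdim : topologicalKrullDim X ≤ 1)

include k hdim in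
/-- Twisting by a globally generated module keeps `H¹ = 0`. -/
theorem subsingleton_H1_tmod {A N : X.Modules} (hA : PicF.IsInvertible A) (hgg : Curv2.IsGloballyGenerated A)
    (hN : PicF.IsInvertible N) (h : Subsingleton (Coh.HH X N 1)) : Subsingleton (Coh.HH X (tmod N A) 1) := by
  obtain ⟨r, s, hs⟩ := exists_fin_genLocus (k := k) hA hgg
  haveI : Coh.IsQCoh (tmod N A) :=
    InvExt.isQCoh_of_isInvertible (AmpleLib.isInvertible_tensor hN hA)
  refine noH1Cover (k := k) hdim h r _ (fun i => pairRight N A (sec (s i))) fun x => ?_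
  obtain ⟨a, ha⟩ := hs x
  rw [mem_genLocus_iff hA] at ha
  refine eq_top_iff.2 fun z _ => Submodule.mem_iSup_of_mem a ?_
  obtain ⟨z, rfl⟩ := (stalkTensor x N A).surjective z
  induction z with
  | zero => exact ⟨0, by rw [map_zero, map_zero]⟩
  | add p q hp hq => rw [map_add]; exact add_mem (hp trivial) (hq trivial)
  | tmul w v =>
    obtain ⟨c, rfl⟩ := ha.2 v
    exact ⟨c • w, (stalk_pairRight N A (sec (s a)) x (c • w)).trans
      (congrArg _ (TensorProduct.smul_tmul c w _))⟩

variable {L : X.Modules} (hL : PicF.IsInvertible L) (hgg : Curv2.IsGloballyGenerated L)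
  (h1 : Subsingleton (Coh.HH X L 1))

include k hdim hL hgg h1 in
/-- No `H¹` on the powers of the square. -/
theorem subsingleton_H1_sq (j : ℕ) :
    Subsingleton (Coh.HH X (tmod (CohB1.tensorPow (tmod L L) j) L) 1) ∧
      Subsingleton (Coh.HH X (CohB1.tensorPow (tmod L L) (j + 1)) 1) := by
  have hA : PicF.IsInvertible (tmod L L) := AmpleLib.isInvertible_tensor hL hL
  have step : ∀ i, Subsingleton (Coh.HH X (tmod (CohB1.tensorPow (tmod L L) i) L) 1) →
      Subsingleton (Coh.HH X (CohB1.tensorPow (tmod L L) (i + 1)) 1) := fun i hi => by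
    haveI := isIso_assocMap (CohB1.tensorPow (tmod L L) i) L L
    exact CurveLib.subsingleton_HH_iso (asIso (LocFreeHomLib.assocMap (CohB1.tensorPow (tmod L L) i) L L)) 1
      (subsingleton_H1_tmod (k := k) hdim hL hgg (AmpleLib.isInvertible_tensor (isInvertible_tensorPow hA i) hL) hi)
  induction j with
  | zero =>
    haveI := isIso_pairLeft_one L
    have h0 : Subsingleton (Coh.HH X (tmod (CohB1.tensorPow (tmod L L) 0) L) 1) :=
      CurveLib.subsingleton_HH_iso (asIso (pairLeft (Coh.structureModule X) L (1 : Γ(X, ⊤)))) 1 h1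
    exact ⟨h0, step 0 h0⟩
  | succ i ih =>
    have h := subsingleton_H1_tmod (k := k) hdim hL hgg (isInvertible_tensorPow hA (i + 1)) ih.2
    exact ⟨h, step (i + 1) h⟩

include k hdim hL hgg h1 in
/-- The products of two sections multiply onto the next power of the square. -/
theorem surjective_mul_sq {r : ℕ} (s : Fin r → (Coh.structureModule X ⟶ L))
    (hs : ∀ x, ∃ i, x ∈ CohB1.genLocus L (s i)) (j : ℕ) (σ : Γ(tmod (CohB1.tensorPow (tmod L L) (j + 1)) (tmod L L), ⊤)) :
    ∃ τ : Fin r → Fin r → Γ(CohB1.tensorPow (tmod L L) (j + 1), ⊤),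
      ∑ i, ∑ l, pairS (CohB1.tensorPow (tmod L L) (j + 1)) (tmod L L) (τ i l) (pairS L L (sec (s l)) (sec (s i))) = σ := by
  classical
  have hA : PicF.IsInvertible (tmod L L) := AmpleLib.isInvertible_tensor hL hL
  have hH := subsingleton_H1_sq (k := k) hdim hL hgg h1 j
  let M := CohB1.tensorPow (tmod L L) (j + 1)
  let P := tmod (CohB1.tensorPow (tmod L L) j) L
  have hP : PicF.IsInvertible P := AmpleLib.isInvertible_tensor (isInvertible_tensorPow hA j) hL
  haveI := isIso_assocMap M L L
  haveI := isIso_assocMap (CohB1.tensorPow (tmod L L) j) L L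
  let β : tmod P L ⟶ M := LocFreeHomLib.assocMap (CohB1.tensorPow (tmod L L) j) L L
  haveI : IsIso β := inferInstanceAs (IsIso (LocFreeHomLib.assocMap (CohB1.tensorPow (tmod L L) j) L L))
  haveI : IsIso (CurveLib.tmap β L) := inferInstanceAs (IsIso (((DCoh.tensorBi (X := X)).map β).app L))
  obtain ⟨σ', rfl⟩ := (bij_app_iso (LocFreeHomLib.assocMap M L L)).2 σ
  obtain ⟨t, ht⟩ := surjective_mul hL (isInvertible_tensorPow hA (j + 1)) (noH1Cover (k := k) hdim hH.2) s hs σ'
  choose w hw using fun i => (bij_app_iso (CurveLib.tmap β L)).2 (t i)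
  choose μ hμ using fun i => surjective_mul hL hP (noH1Cover (k := k) hdim hH.1) s hs (w i)
  refine ⟨fun i l => β.app ⊤ (μ i l), ?_⟩
  rw [← ht, map_sum]
  refine Finset.sum_congr rfl fun i _ => ?_
  have ht' : t i = ∑ l, pairS M L (β.app ⊤ (μ i l)) (sec (s l)) := by
    rw [← hw i, ← hμ i, map_sum]
    exact Finset.sum_congr rfl fun l _ => tensorBi_app_pairS_left β (μ i l) (sec (s l))
  rw [ht']
  have hsum : pairS (tmod M L) L (∑ l, pairS M L (β.app ⊤ (μ i l)) (sec (s l))) (sec (s i)) =
      ∑ l, pairS (tmod M L) L (pairS M L (β.app ⊤ (μ i l)) (sec (s l))) (sec (s i)) :=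
    map_sum (AddMonoidHom.mk' (fun v => pairS (tmod M L) L v (sec (s i))) fun v v' => pairS_add_left v v' _) _ _
  rw [hsum, map_sum]
  exact Finset.sum_congr rfl fun l _ => (LocFreeHomLib.assocMap_pairS M L L _ _ _).symm

end Groth.Agent.H1ZeroLib
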