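import Groth.Agent.H1ZeroLib.Twist
import Groth.Agent.ZeroConnLib.Basic
import Groth.Agent.DVRCrit.Local

/-!
# The inductive steps: thickenings and unions
-/

set_option autoImplicit false
set_option backward.isDefEq.respectTransparency false
set_option backward.isDefEq.respectTransparency.types false
set_option linter.style.haveILetI false

universe u

open CategoryTheory CategoryTheory.Limits AlgebraicGeometry TopologicalSpace Opposite
open Groth.Agent.PullbackMod Groth.Agent.DCohLib Groth.Agent.CurveLib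
open scoped TensorProduct

noncomputable section

namespace Groth.Agent.H1ZeroLib

variable {k : Type u} [Field k] {X : Scheme.{u}} [X.Over (Spec (CommRingCat.of k))]
  [IsProper (X ↘ Spec (CommRingCat.of k))] (hdim : topologicalKrullDim X ≤ 1)

include k in
/-- On a connected reduced closed subscheme every nonzero function generates everywhere. -/
theorem fieldLike_vanishingIdeal (C : Closeds X) (hC : _root_.IsConnected (C : Set X)) :
    FieldLike (Scheme.IdealSheafData.vanishingIdeal C) := by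
  let J := Scheme.IdealSheafData.vanishingIdeal C
  let Y := J.subscheme
  haveI : IsReduced Y := DVRCrit.isReduced_vanishingIdeal C
  haveI : ConnectedSpace Y := by
    refine connectedSpace_iff_univ.2 ?_
    have h := hC
    rw [← Scheme.IdealSheafData.coe_support_vanishingIdeal C, ← Scheme.IdealSheafData.range_subschemeι,
      ← Set.image_univ] at h
    exact ⟨Set.image_nonempty.1 h.1, J.subschemeι.isEmbedding.isInducing.isPreconnected_image.1 h.2⟩
  letI : Y.Over (Spec (CommRingCat.of k)) := ⟨J.subschemeι ≫ (X ↘ Spec (CommRingCat.of k))⟩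
  haveI : IsProper (Y ↘ Spec (CommRingCat.of k)) :=
    inferInstanceAs (IsProper (J.subschemeι ≫ (X ↘ Spec (CommRingCat.of k))))
  intro σ hσ x
  by_cases hx : x ∈ J.support
  swap
  · exact surjective_of_notMem_support hx σ
  let a : Γ(Y, ⊤) := σ.app ⊤ (1 : Γ(X, ⊤))
  rcases ZeroConnLib.isUnit_or_isNilpotent (X := Y) k a with hu | hn
  swap
  · refine absurd (DCohLib.hom_unit_ext ?_) hσ
    exact hn.eq_zero
  obtain ⟨w, rfl⟩ : ∃ w, J.subschemeι w = x := by
    rw [← Set.mem_range, Scheme.IdealSheafData.range_subschemeι]; exact hx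
  obtain ⟨r, hr⟩ := qv_surjective J (J.subschemeι w) (stalkLin σ _ (ParaFLib.oneG _))
  refine (surjective_iff_isUnit hx σ hr.symm).2 ?_
  have h1 : J.subschemeι.stalkMap w r • ParaFLib.oneG w = Y.presheaf.germ ⊤ w trivial a • ParaFLib.oneG w := by
    rw [← HilbObsLib.pushStalk_toSubscheme]
    refine (congrArg _ hr).trans ((congrArg _ (stalkLin_germ σ (U := ⊤) _ trivial _)).trans ?_)
    refine (pushStalk_germ J.subschemeι _ w (W := ⊤) trivial _).trans ?_
    rw [ParaFLib.oneG, ← ParaFLib.germ_smul']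
    exact congrArg _ (mul_one a).symm
  have h2 : IsUnit ((J.subschemeι.stalkMap w).hom r) := by
    rw [(ParaFLib.bijective_oneG w).1 h1]
    exact hu.map (Y.presheaf.germ ⊤ w trivial).hom
  exact IsUnit.of_map (J.subschemeι.stalkMap w).hom r h2

/-! ### Untwisted kernels along a union -/

section Union

omit [X.Over (Spec (CommRingCat.of k))] [IsProper (X ↘ Spec (CommRingCat.of k))]

variable {J A B : X.IdealSheafData} (hJA : J ≤ A) (hJB : J ≤ B)

theorem kerMap0_aux :
    (kernel.ι (qmap hJB) ≫ qmap hJA) ≫ qmap (le_sup_left : A ≤ A ⊔ B) = 0 := by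
  have h : qmap hJA ≫ qmap (le_sup_left : A ≤ A ⊔ B) = qmap hJB ≫ qmap (le_sup_right : B ≤ A ⊔ B) := by
    haveI : Epi (ClSub.toSubscheme J) := HilbObsLib.epi_toSubscheme J
    rw [← cancel_epi (ClSub.toSubscheme J), ← Category.assoc, ← Category.assoc, toSubscheme_qmap,
      toSubscheme_qmap, toSubscheme_qmap, toSubscheme_qmap]
  rw [Category.assoc, h, ← Category.assoc, kernel.condition, zero_comp]

/-- The comparison of kernels. -/
def kerMap0 : kernel (qmap hJB) ⟶ kernel (qmap (le_sup_left : A ≤ A ⊔ B)) :=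
  kernel.lift _ (kernel.ι (qmap hJB) ≫ qmap hJA) (kerMap0_aux hJA hJB)

theorem surjective_kerMap0 (x : X) : Function.Surjective (stalkLin (kerMap0 hJA hJB) x) := fun w => by
  obtain ⟨r, hr⟩ := qv_surjective A x (stalkLin (kernel.ι (qmap (le_sup_left : A ≤ A ⊔ B))) x w)
  have h0 := HilbObsLib.stalk_kernel_ι_comp (qmap (le_sup_left : A ≤ A ⊔ B)) x w
  rw [← hr, stalk_qmap, qv_eq_zero_iff, stalkIdeal_sup] at h0
  obtain ⟨a, ha, b, hb, rfl⟩ := Submodule.mem_sup.1 h0
  obtain ⟨v, hv⟩ := HilbObsLib.stalk_kernel_ι_exists (qmap hJB) x (x := qv J x b)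
    ((stalk_qmap hJB x b).trans ((qv_eq_zero_iff B x b).2 hb))
  refine ⟨v, (mono_iff_stalk (kernel.ι (qmap (le_sup_left : A ≤ A ⊔ B)))).1 inferInstance x ?_⟩
  rw [← LinearMap.comp_apply, ← stalkLin_comp, kerMap0, kernel.lift_ι, stalkLin_comp, LinearMap.comp_apply, hv,
    stalk_qmap, ← hr, qv, qv, add_smul, map_add]
  exact (add_eq_right.2 ((qv_eq_zero_iff A x a).2 ha)).symm

theorem injective_kerMap0
    (hinf : ∀ x, IntMult.stalkIdeal A x ⊓ IntMult.stalkIdeal B x ≤ IntMult.stalkIdeal J x) (x : X) :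
    Function.Injective (stalkLin (kerMap0 hJA hJB) x) := by
  rw [injective_iff_map_eq_zero]
  intro v hv
  obtain ⟨r, hr⟩ := qv_surjective J x (stalkLin (kernel.ι (qmap hJB)) x v)
  have hB := HilbObsLib.stalk_kernel_ι_comp (qmap hJB) x v
  rw [← hr, stalk_qmap, qv_eq_zero_iff] at hB
  have hA : stalkLin (qmap hJA) x (stalkLin (kernel.ι (qmap hJB)) x v) = 0 := by
    have h := congrArg (stalkLin (kernel.ι (qmap (le_sup_left : A ≤ A ⊔ B))) x) hv
    rwa [← LinearMap.comp_apply, ← stalkLin_comp, kerMap0, kernel.lift_ι, stalkLin_comp, LinearMap.comp_apply,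
      map_zero] at h
  rw [← hr, stalk_qmap, qv_eq_zero_iff] at hA
  refine (mono_iff_stalk (kernel.ι (qmap hJB))).1 inferInstance x ?_
  rw [map_zero, ← hr, qv_eq_zero_iff]
  exact hinf x ⟨hA, hB⟩

theorem killed_kernel {D : X.IdealSheafData}
    (h : ∀ x, IntMult.stalkIdeal D x * IntMult.stalkIdeal B x ≤ IntMult.stalkIdeal J x) :
    Killed D (kernel (qmap hJB)) := fun x a ha n => by
  obtain ⟨r, hr⟩ := qv_surjective J x (stalkLin (kernel.ι (qmap hJB)) x n)
  have hB := HilbObsLib.stalk_kernel_ι_comp (qmap hJB) x n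
  rw [← hr, stalk_qmap, qv_eq_zero_iff] at hB
  refine (mono_iff_stalk (kernel.ι (qmap hJB))).1 inferInstance x ?_
  rw [map_zero, map_smul, ← hr, qv_eq_smul, smul_smul, ← qv_eq_smul, qv_eq_zero_iff]
  exact h x (Ideal.mul_mem_mul ha hB)

theorem killed_kernel_of_inf
    (hinf : ∀ x, IntMult.stalkIdeal A x ⊓ IntMult.stalkIdeal B x ≤ IntMult.stalkIdeal J x) :
    Killed A (kernel (qmap hJB)) :=
  killed_kernel hJB fun x => Ideal.mul_le_inf.trans (hinf x)

theorem support_kernel_subset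
    (hinf : ∀ x, IntMult.stalkIdeal A x ⊓ IntMult.stalkIdeal B x ≤ IntMult.stalkIdeal J x) :
    CohB1.support (kernel (qmap hJB)) ⊆ A.support := by
  intro x hx
  by_contra hxA
  refine hx ⟨fun a b => ?_⟩
  have key : ∀ n : (kernel (qmap hJB)).presheaf.stalk x, n = 0 := fun n => by
    have h := killed_kernel_of_inf hJB hinf x 1 (by rw [IdealMulLib.stalkIdeal_eq_top A hxA]; trivial) n
    rwa [one_smul] at h
  rw [key a, key b]

end Union

variable [hO : Subsingleton (Coh.HH X (Coh.structureModule X) 1)]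

include k hdim in
/-- For a disjoint union the kernel has no `H¹`. -/
theorem subsingleton_H1_kernel_of_disjoint {J A B : X.IdealSheafData} (hJA : J ≤ A) (hJB : J ≤ B)
    (hinf : ∀ x, IntMult.stalkIdeal A x ⊓ IntMult.stalkIdeal B x ≤ IntMult.stalkIdeal J x)
    (hdisj : A ⊔ B = ⊤) : Subsingleton (Coh.HH X (kernel (qmap hJB)) 1) := by
  haveI := subsingleton_H1_quotMod (k := k) hdim A
  haveI : IsIso (kerMap0 hJA hJB) :=
    (isIso_iff_stalk _).2 fun x => ⟨injective_kerMap0 hJA hJB hinf x, surjective_kerMap0 hJA hJB x⟩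
  have h0 : qmap (le_sup_left : A ≤ A ⊔ B) = 0 := hom_ext_stalk fun x => LinearMap.ext fun z => by
    obtain ⟨r, rfl⟩ := qv_surjective A x z
    rw [stalk_qmap, DevLib.stalkLin_zero, LinearMap.zero_apply, qv_eq_zero_iff, hdisj, DivisorialLib.stalkIdeal_top]
    trivial
  haveI : IsIso (kernel.ι (qmap (le_sup_left : A ≤ A ⊔ B))) :=
    (isIso_iff_stalk _).2 fun x => ⟨(mono_iff_stalk _).1 inferInstance x, fun z =>
      HilbObsLib.stalk_kernel_ι_exists _ x (by rw [h0, DevLib.stalkLin_zero, LinearMap.zero_apply])⟩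
  exact ProjCoh.subsingleton_of_iso (asIso (kerMap0 hJA hJB) ≪≫ asIso (kernel.ι _)).symm 1

/-! ### Scaling by functions -/

variable {A : X.IdealSheafData}

/-- Multiplication by a function on `A`. -/
def act (c : Coh.structureModule X ⟶ ClSub.quotMod A) : ClSub.quotMod A ⟶ ClSub.quotMod A :=
  haveI := isIso_mulS_toSubscheme (killed_quotMod A)
  (tensorStructureIso (ClSub.quotMod A)).inv ≫ mulS (ClSub.quotMod A) c ≫
    inv (mulS (ClSub.quotMod A) (ClSub.toSubscheme A)) ≫ (tensorStructureIso (ClSub.quotMod A)).hom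

omit [X.Over (Spec (CommRingCat.of k))] [IsProper (X ↘ Spec (CommRingCat.of k))] hO in
theorem stalk_act (c : Coh.structureModule X ⟶ ClSub.quotMod A) (x : X) {r : X.presheaf.stalk x}
    (hr : stalkLin c x (ParaFLib.oneG x) = qv A x r) (z : (ClSub.quotMod A).presheaf.stalk x) :
    stalkLin (act c) x z = r • z := by
  haveI := isIso_mulS_toSubscheme (killed_quotMod A)
  let N := ClSub.quotMod A
  have he : stalkLin (mulS N c) x = (r • LinearMap.id).comp (stalkLin (mulS N (ClSub.toSubscheme A)) x) := by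
    refine LinearMap.ext fun w => ?_
    obtain ⟨w, rfl⟩ := (stalkTensor x N (Coh.structureModule X)).surjective w
    rw [LinearMap.comp_apply, LinearMap.smul_apply, LinearMap.id_apply, stalkTensor_natural_right,
      stalkTensor_natural_right, ← map_smul]
    congr 1
    induction w with
    | zero => simp
    | add a b ha hb => rw [map_add, map_add, ha, hb, smul_add]
    | tmul n a =>
      obtain ⟨d, rfl⟩ := (ParaFLib.bijective_oneG x).2 a
      rw [LinearMap.lTensor_tmul, LinearMap.lTensor_tmul, map_smul, map_smul, hr, qv_eq_smul A x r,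
        ← TensorProduct.tmul_smul, smul_comm r d]
      rw [qv, one_smul]
  rw [act, stalkLin_comp, stalkLin_comp, stalkLin_comp, LinearMap.comp_apply, LinearMap.comp_apply,
    LinearMap.comp_apply, he, LinearMap.comp_apply, LinearMap.smul_apply, LinearMap.id_apply, map_smul, map_smul]
  congr 1
  have hcancel : ∀ {P Q : X.Modules} (f : P ⟶ Q) (g : Q ⟶ P), f ≫ g = 𝟙 P → ∀ w,
      stalkLin g x (stalkLin f x w) = w := fun f g h w => by
    rw [← LinearMap.comp_apply, ← stalkLin_comp, h, stalkLin_id, LinearMap.id_apply]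
  rw [hcancel _ _ (IsIso.hom_inv_id _), hcancel _ _ (tensorStructureIso (ClSub.quotMod A)).inv_hom_id]

omit [X.Over (Spec (CommRingCat.of k))] [IsProper (X ↘ Spec (CommRingCat.of k))] hO in
theorem stalk_actL {L : X.Modules} (c : Coh.structureModule X ⟶ ClSub.quotMod A) (x : X) {r : X.presheaf.stalk x}
    (hr : stalkLin c x (ParaFLib.oneG x) = qv A x r) (e : L.presheaf.stalk x) (a : X.presheaf.stalk x) :
    stalkLin (tmap (act c) L) x (tq A x e a) = tq A x e (r * a) := by
  rw [← tq_smul, tq, stalkTensor_natural_left, LinearMap.rTensor_tmul, stalk_act c x hr, ← map_smul,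
    TensorProduct.smul_tmul']

/-! ### Global generation -/

variable {L : X.Modules}

include k hdim in
theorem exists_gen_of_lift (hL : PicF.IsInvertible L) {J B D : X.IdealSheafData} (hJB : J ≤ B)
    (hN : Killed D (kernel (qmap hJB))) [Subsingleton (Coh.HH X (kernel (qmap hJB)) 1)] (hD : GG D L)
    (hG : GG B L) {x : X} (hx : x ∈ B.support) :
    ∃ σ : Coh.structureModule X ⟶ LJ J L, Function.Surjective (stalkLin σ x) := by
  haveI := subsingleton_H1_kerL (k := k) hdim hL hJB hN hD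
  obtain ⟨τ, hτ⟩ := hG x
  obtain ⟨σ, hσ⟩ := exists_lift (k := k) (qmapL hJB L) (fun y => by
    obtain ⟨e, he⟩ := ParaFLib.exists_stalk_gen hL y
    exact surjective_qmapL he hJB) τ
  exact ⟨σ, surjective_of_qmapL hL hJB hx σ (hσ ▸ hτ)⟩

include k hdim in
theorem gg_of_thickening (hL : PicF.IsInvertible L) {J B D : X.IdealSheafData} (hJB : J ≤ B)
    (hN : Killed D (kernel (qmap hJB))) [Subsingleton (Coh.HH X (kernel (qmap hJB)) 1)] (hD : GG D L)
    (hG : GG B L) (hsupp : (J.support : Set X) ⊆ B.support) : GG J L := by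
  intro x
  by_cases hx : x ∈ J.support
  · exact exists_gen_of_lift (k := k) hdim hL hJB hN hD hG (hsupp hx)
  · exact ⟨0, surjective_of_notMem_supportL hL hx _⟩

include k hdim in
/-- Sections glue along `A ⊔ B`. -/
theorem exists_glue (hL : PicF.IsInvertible L) {J A B : X.IdealSheafData} (hJA : J ≤ A) (hJB : J ≤ B)
    (hinf : ∀ x, IntMult.stalkIdeal A x ⊓ IntMult.stalkIdeal B x ≤ IntMult.stalkIdeal J x)
    [Subsingleton (Coh.HH X (kernel (qmap hJB)) 1)] (hD : GG A L)
    (s : Coh.structureModule X ⟶ LJ A L) (t : Coh.structureModule X ⟶ LJ B L)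
    (h : s ≫ qmapL (le_sup_left : A ≤ A ⊔ B) L = t ≫ qmapL (le_sup_right : B ≤ A ⊔ B) L) :
    ∃ u : Coh.structureModule X ⟶ LJ J L, u ≫ qmapL hJA L = s := by
  haveI := subsingleton_H1_kerL (k := k) hdim hL hJB (killed_kernel_of_inf hJB hinf) hD
  obtain ⟨u₀, hu₀⟩ := exists_lift (k := k) (qmapL hJB L) (fun y => by
    obtain ⟨e, he⟩ := ParaFLib.exists_stalk_gen hL y
    exact surjective_qmapL he hJB) t
  haveI : IsIso (kerMap hJA hJB L) :=
    (isIso_iff_stalk _).2 fun x => ⟨injective_kerMap hJA hJB hL hinf x, surjective_kerMap hJA hJB hL x⟩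
  have hsq : qmapL hJA L ≫ qmapL (le_sup_left : A ≤ A ⊔ B) L = qmapL hJB L ≫ qmapL (le_sup_right : B ≤ A ⊔ B) L := by
    rw [qmapL, qmapL, qmapL, qmapL, ← tmap_comp', ← tmap_comp']
    congr 1
    haveI : Epi (ClSub.toSubscheme J) := HilbObsLib.epi_toSubscheme J
    rw [← cancel_epi (ClSub.toSubscheme J), ← Category.assoc, ← Category.assoc, toSubscheme_qmap,
      toSubscheme_qmap, toSubscheme_qmap, toSubscheme_qmap]
  have hd : (s - u₀ ≫ qmapL hJA L) ≫ qmapL (le_sup_left : A ≤ A ⊔ B) L = 0 := by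
    rw [Preadditive.sub_comp, Category.assoc, hsq, ← Category.assoc, hu₀, h, sub_self]
  refine ⟨u₀ + kernel.lift _ _ hd ≫ inv (kerMap hJA hJB L) ≫ kernel.ι (qmapL hJB L), ?_⟩
  rw [Preadditive.add_comp, Category.assoc, Category.assoc, ← kerMap_ι hJA hJB L, IsIso.inv_hom_id_assoc,
    kernel.lift_ι, add_sub_cancel]

include k hdim in
/-- Global generation of a union from that of its parts. -/
theorem gg_union (hL : PicF.IsInvertible L) {J A B : X.IdealSheafData} (hJA : J ≤ A) (hJB : J ≤ B)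
    (hinf : ∀ x, IntMult.stalkIdeal A x ⊓ IntMult.stalkIdeal B x ≤ IntMult.stalkIdeal J x)
    (hfin : topologicalKrullDim ((A ⊔ B).support : Set X) ≤ 0)
    (hA : A ⊔ B = ⊤ ∨ FieldLike A) [Subsingleton (Coh.HH X (kernel (qmap hJB)) 1)]
    (hGA : GG A L) (hGB : GG B L) : GG J L := by
  intro x
  by_cases hxB : x ∈ B.support
  · exact exists_gen_of_lift (k := k) hdim hL hJB (killed_kernel_of_inf hJB hinf) hGA hGB hxB
  by_cases hxA : x ∈ A.support
  swap
  · refine ⟨0, surjective_of_notMem_supportL hL (fun hxJ => ?_) _⟩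
    refine (mem_support_iff_stalk J x).1 hxJ (top_le_iff.1 ?_)
    refine le_trans (le_inf ?_ ?_) (hinf x)
    · exact (IdealMulLib.stalkIdeal_eq_top A hxA).ge
    · exact (IdealMulLib.stalkIdeal_eq_top B hxB).ge
  haveI := EulerIneqLib.isNoetherian_proper (X := X) k
  suffices ∃ (s : Coh.structureModule X ⟶ LJ A L) (t : Coh.structureModule X ⟶ LJ B L),
      Function.Surjective (stalkLin s x) ∧
        s ≫ qmapL (le_sup_left : A ≤ A ⊔ B) L = t ≫ qmapL (le_sup_right : B ≤ A ⊔ B) L by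
    obtain ⟨s, t, hs, hst⟩ := this
    obtain ⟨u, hu⟩ := exists_glue (k := k) hdim hL hJA hJB hinf hGA s t hst
    exact ⟨u, surjective_of_qmapL hL hJA hxA u (hu ▸ hs)⟩
  obtain ⟨s, hs⟩ := hGA x
  -- everything happens at the points of `Z = A ⊔ B`
  have hext : ∀ (φ ψ : Coh.structureModule X ⟶ LJ (A ⊔ B) L),
      (∀ z ∈ (A ⊔ B).support, stalkLin φ z (ParaFLib.oneG z) = stalkLin ψ z (ParaFLib.oneG z)) → φ = ψ := by
    intro φ ψ h
    refine hom_ext_stalk fun z => LinearMap.ext fun w => ?_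
    obtain ⟨c, rfl⟩ := (ParaFLib.bijective_oneG z).2 w
    rw [map_smul, map_smul]
    by_cases hz : z ∈ (A ⊔ B).support
    · rw [h z hz]
    · obtain ⟨e, he⟩ := ParaFLib.exists_stalk_gen hL z
      congr 1
      obtain ⟨a, ha⟩ := tq_surjective he (A ⊔ B) (stalkLin φ z (ParaFLib.oneG z))
      obtain ⟨b, hb⟩ := tq_surjective he (A ⊔ B) (stalkLin ψ z (ParaFLib.oneG z))
      rw [← ha, ← hb, (tq_eq_zero_iff he _ a).2 (by rw [IdealMulLib.stalkIdeal_eq_top _ hz]; trivial),
        (tq_eq_zero_iff he _ b).2 (by rw [IdealMulLib.stalkIdeal_eq_top _ hz]; trivial)]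
  by_cases hZ : ((A ⊔ B).support : Set X) = ∅
  · exact ⟨s, 0, hs, hext _ _ fun z hz => absurd hz (Set.eq_empty_iff_forall_notMem.1 hZ z)⟩
  obtain ⟨z₀, hz₀⟩ := Set.nonempty_iff_ne_empty.2 hZ
  have hFA : FieldLike A := hA.resolve_left fun h => by
    rw [h, Scheme.IdealSheafData.support_top] at hz₀
    exact hz₀
  -- functions on `Z` lift to `A` and generate everywhere
  have hliftA : ∀ ρ : Coh.structureModule X ⟶ ClSub.quotMod (A ⊔ B),
      ∃ c : Coh.structureModule X ⟶ ClSub.quotMod A, c ≫ qmap (le_sup_left : A ≤ A ⊔ B) = ρ := by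
    intro ρ
    haveI := subsingleton_H1_of_surjective (k := k) hdim (kerMap0 hJA hJB) (surjective_kerMap0 hJA hJB)
    exact exists_lift (k := k) _ (surjective_qmap _) ρ
  have hsupp : CohB1.support (ClSub.quotMod (A ⊔ B)) ⊆ ((A ⊔ B).support : Set X) := IntLib.support_quotMod_subset _
  have hglob : ∀ (z : X) (r : X.presheaf.stalk z), ∃ ρ : Coh.structureModule X ⟶ ClSub.quotMod (A ⊔ B),
      stalkLin ρ z (ParaFLib.oneG z) = qv (A ⊔ B) z r ∧ ∀ y, y ≠ z → stalkLin ρ y (ParaFLib.oneG y) = 0 := by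
    intro z r
    obtain ⟨q, hq, hq'⟩ := exists_global_germ' (A ⊔ B).support.isClosed hfin (ClSub.quotMod (A ⊔ B)) hsupp z (qv (A ⊔ B) z r)
    exact ⟨DCohLib.secHom _ q, (CurveLib.stalkLin_secHom q z).trans hq,
      fun y hy => (CurveLib.stalkLin_secHom q y).trans (hq' y hy)⟩
  have hgenZ : ∀ ρ : Coh.structureModule X ⟶ ClSub.quotMod (A ⊔ B), ρ ≠ 0 → ∀ y ∈ (A ⊔ B).support,
      Function.Surjective (stalkLin ρ y) := by
    intro ρ hρ y hy
    obtain ⟨c, rfl⟩ := hliftA ρ
    intro z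
    obtain ⟨w, hw⟩ := surjective_qmap (le_sup_left : A ≤ A ⊔ B) y z
    obtain ⟨v, rfl⟩ := hFA c (fun h => hρ (by rw [h, zero_comp])) y w
    exact ⟨v, by rw [stalkLin_comp, LinearMap.comp_apply, hw]⟩
  have hpt : ∀ z ∈ (A ⊔ B).support, z = z₀ := by
    intro z hz
    by_contra hne
    obtain ⟨ρ, hρ, hρ'⟩ := hglob z₀ 1
    obtain ⟨r, hr⟩ := qv_surjective (A ⊔ B) z (stalkLin ρ z (ParaFLib.oneG z))
    have h1 := (surjective_iff_isUnit hz ρ hr.symm).1 (hgenZ ρ (fun h => ?_) z hz)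
    · rw [hρ' z hne, qv_eq_zero_iff] at hr
      exact stalkIdeal_le_maximal hz hr h1
    · rw [h, DevLib.stalkLin_zero, LinearMap.zero_apply] at hρ
      exact stalkIdeal_le_maximal hz₀ ((qv_eq_zero_iff _ z₀ 1).1 hρ.symm) isUnit_one
  obtain ⟨e, he⟩ := ParaFLib.exists_stalk_gen hL z₀
  obtain ⟨a, ha⟩ := tq_surjective he A (stalkLin s z₀ (ParaFLib.oneG z₀))
  by_cases hau : IsUnit a
  swap
  · refine ⟨s, 0, hs, hext _ _ fun z hz => ?_⟩
    rw [hpt z hz, zero_comp, DevLib.stalkLin_zero, LinearMap.zero_apply, stalkLin_comp, LinearMap.comp_apply, ← ha,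
      stalk_qmapL, tq_eq_zero_iff he]
    by_contra hne
    obtain ⟨ρ, hρ, -⟩ := hglob z₀ a
    refine hau ((surjective_iff_isUnit hz₀ ρ hρ).1 (hgenZ ρ (fun h => hne ?_) z₀ hz₀))
    rw [h, DevLib.stalkLin_zero, LinearMap.zero_apply] at hρ
    exact (qv_eq_zero_iff _ z₀ a).1 hρ.symm
  obtain ⟨v, rfl⟩ := hau
  obtain ⟨t, ht⟩ := hGB z₀
  have hz₀B : z₀ ∈ B.support := Scheme.IdealSheafData.support_antitone le_sup_right hz₀
  obtain ⟨b, hb⟩ := tq_surjective he B (stalkLin t z₀ (ParaFLib.oneG z₀))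
  have hbu := (surjective_iff_isUnitL he hz₀B t hb.symm).1 ht
  obtain ⟨ρ, hρ, -⟩ := hglob z₀ (b * ↑v⁻¹)
  obtain ⟨c, hc⟩ := hliftA ρ
  have hρ0 : ρ ≠ 0 := fun h => by
    rw [h, DevLib.stalkLin_zero, LinearMap.zero_apply] at hρ
    exact stalkIdeal_le_maximal hz₀ ((qv_eq_zero_iff _ z₀ _).1 hρ.symm) (hbu.mul v⁻¹.isUnit)
  have hc0 : c ≠ 0 := fun h => hρ0 (by rw [← hc, h, zero_comp])
  refine ⟨s ≫ tmap (act c) L, t, ?_, hext _ _ fun z hz => ?_⟩
  · obtain ⟨g, hg⟩ := ParaFLib.exists_stalk_gen hL x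
    obtain ⟨d, hd⟩ := tq_surjective hg A (stalkLin s x (ParaFLib.oneG x))
    obtain ⟨r, hr⟩ := qv_surjective A x (stalkLin c x (ParaFLib.oneG x))
    refine (surjective_iff_isUnitL hg hxA _ (r := r * d) ?_).2 (IsUnit.mul
      ((surjective_iff_isUnit hxA c hr.symm).1 (hFA c hc0 x)) ((surjective_iff_isUnitL hg hxA s hd.symm).1 hs))
    rw [stalkLin_comp, LinearMap.comp_apply, ← hd, stalk_actL c x hr.symm]
  · rw [hpt z hz]
    obtain ⟨r, hr⟩ := qv_surjective A z₀ (stalkLin c z₀ (ParaFLib.oneG z₀))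
    have h1 : qv (A ⊔ B) z₀ r = qv (A ⊔ B) z₀ (b * ↑v⁻¹) := by
      rw [← hρ, ← hc, stalkLin_comp, LinearMap.comp_apply, ← hr, stalk_qmap]
    rw [stalkLin_comp, LinearMap.comp_apply, stalkLin_comp, LinearMap.comp_apply, ← ha, stalk_actL c z₀ hr.symm,
      stalk_qmapL, stalkLin_comp, LinearMap.comp_apply, ← hb, stalk_qmapL]
    have h2 : tq (A ⊔ B) z₀ e r = tq (A ⊔ B) z₀ e (b * ↑v⁻¹) := by rw [tq, tq, h1]
    rw [mul_comm, ← tq_smul, h2, tq_smul, mul_comm b, ← mul_assoc, Units.mul_inv, one_mul]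

end Groth.Agent.H1ZeroLib
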